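import Cfsg.Agent.H173.PQ.Cent_mg_m3
import Cfsg.Agent.H55.PQ.Mult_m3
import Cfsg.Agent.H546.FaPSL
import Cfsg.Agent.H277.ClsPsl
import Cfsg.Agent.H546.FaPSp
import Cfsg.Prelude.Def_LieTypeChar
import Cfsg.Agent.H546.FaPSU
import Cfsg.Agent.H277.ClsPsu
import Cfsg.Agent.H834.Mov.Chev_m3
import Cfsg.Agent.H918.UBase
import Cfsg.Agent.S0278
import Cfsg.Agent.S0279
import Mathlib
import Cfsg.Agent.H476.FieldOrth
import Cfsg.Agent.H277.ClsOrth
import Cfsg.Agent.H24.FixPSp_m3
import Cfsg.Agent.S2715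
import Cfsg.Agent.H596.FldFacts
import Cfsg.Agent.H85.RelStr_m3
import Cfsg.Agent.KFacts.RgdLieCharP
import Cfsg.Agent.H60.TRowTwF4
import Cfsg.Agent.H967.CopD4_m3
import Cfsg.Agent.S1068
import Cfsg.Agent.Prune
set_option linter.all false
prune_inst 0x7ffffdfffff837ffffff7e7ffedddffdfbb8ffffefdff9fbffe47befbfdfeb1e49f5abad6feb19ff0ec26e9418fc7bd3fbfefeffea6fdc7ffffdfdf45fffffdfffffbd003197883e0f7e6fff9bf07f8e7f3fffffffffffffffffffffffffffbeffffffffffff
open scoped Cfsg.Agent.FastGrp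

-- part: H95/PQ/RowPSL
section
/-!
# S4981 [X-PSL]: the linear groups in cross characteristic (helper95)
-/

set_option autoImplicit false

universe u v w

namespace Cfsg.Agent.H95.PQ

open Cfsg Cfsg.Agent.H54.PQ Cfsg.Agent.H173.PQ Cfsg.Agent.H55.PQ.Red Cfsg.Agent.H967.CopMat Cfsg.Agent.H546.FaPSL Matrix
open Cfsg.Agent.ClassicalGeometry.AutPSL.Root Cfsg.Agent.ClassicalGeometry.AutPSL.Auto
  Cfsg.Agent.ClassicalGeometry.AutPSL.Main

namespace PSL

/-- the `p`-part of the order of `SL_n` -/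
theorem fact_sl {F : Type*} [Field F] [Fintype F] {n : ℕ} (hn : 1 ≤ n) {p : ℕ}
    (hpF : ¬ p ∣ Fintype.card F) :
    (Fintype.card F - 1).factorization p + (Nat.card (_root_.Matrix.SpecialLinearGroup (Fin n) F)).factorization p =
      ∑ i ∈ Finset.range n, (Fintype.card F ^ (i + 1) - 1).factorization p := by
  have h := S0242.result (F := F) rfl n hn
  have hq : 1 < Fintype.card F := Fintype.one_lt_card
  rw [H277.ClsPsl.prod_gl] at h
  have h1 : Fintype.card F - 1 ≠ 0 := by omega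
  have h2 : ∀ i ∈ Finset.range n, Fintype.card F ^ (i + 1) - 1 ≠ 0 := by
    intro i _
    have h3 : 1 < Fintype.card F ^ (i + 1) := Nat.one_lt_pow (Nat.succ_ne_zero i) hq
    omega
  have h3 := congrArg (fun m : ℕ => m.factorization p) h
  have hc : Nat.card (_root_.Matrix.SpecialLinearGroup (Fin n) F) ≠ 0 := Nat.card_pos.ne'
  rw [Nat.factorization_mul h1 hc, Nat.factorization_mul (pow_ne_zero _ (by omega)) (Finset.prod_ne_zero_iff.2 h2),
    Nat.factorization_prod h2, Nat.factorization_pow] at h3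
  simp only [Finsupp.add_apply, Finsupp.smul_apply, Nat.factorization_eq_zero_of_not_dvd hpF, smul_zero, zero_add,
    Finsupp.coe_finsetSum, Finset.sum_apply] at h3
  exact h3

/-- the subgroup `SL_n` of `GL_n` -/
def slG (n : ℕ) (F : Type*) [Field F] : Subgroup (GL (Fin n) F) :=
  (SpecialLinearGroup.toGL : _root_.Matrix.SpecialLinearGroup (Fin n) F →* GL (Fin n) F).range

variable {F : Type v} [Field F] {n : ℕ}

theorem stab : Stab (slG n F) := by
  rintro σ _ ⟨s, rfl⟩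
  exact ⟨SpecialLinearGroup.map (σ : F →+* F) s, Units.ext (Matrix.ext fun _ _ => rfl)⟩

/-- `SL_n ≃ slG` -/
noncomputable def eqv (n : ℕ) (F : Type*) [Field F] : _root_.Matrix.SpecialLinearGroup (Fin n) F ≃* ↥(slG n F) :=
  MonoidHom.ofInjective SpecialLinearGroup.toGL_injective

/-- the projection -/
noncomputable def prG (n : ℕ) (F : Type*) [Field F] : ↥(slG n F) →* ProjectiveSpecialLinearGroup (Fin n) F :=
  (pr : _root_.Matrix.SpecialLinearGroup (Fin n) F →* _).comp (eqv n F).symm.toMonoidHom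

theorem prG_eqv (s : _root_.Matrix.SpecialLinearGroup (Fin n) F) : prG n F (eqv n F s) = pr s := by
  show pr ((eqv n F).symm (eqv n F s)) = _
  rw [MulEquiv.symm_apply_apply]

theorem prG_surjective : Function.Surjective (prG n F) := by
  intro x
  obtain ⟨s, rfl⟩ := pr_surjective x
  exact ⟨eqv n F s, prG_eqv s⟩

theorem fieldAut_eqv (σ : F ≃+* F) (s : _root_.Matrix.SpecialLinearGroup (Fin n) F) :
    fieldAut stab σ (eqv n F s) = eqv n F (fld σ s) :=
  ext_mat fun _ _ => rfl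

theorem prG_ker {z : ↥(slG n F)} (hz : z ∈ (prG n F).ker) : z ∈ Subgroup.center ↥(slG n F) ∧ z ^ n = 1 := by
  obtain ⟨s, rfl⟩ := (eqv n F).surjective z
  rw [MonoidHom.mem_ker, prG_eqv, pr_eq_one_iff] at hz
  constructor
  · rw [Subgroup.mem_center_iff]
    intro g
    obtain ⟨t, rfl⟩ := (eqv n F).surjective g
    rw [← map_mul, ← map_mul, (Subgroup.mem_center_iff.1 hz t)]
  · rw [← map_pow]
    obtain ⟨c, hc, hs⟩ := Matrix.SpecialLinearGroup.mem_center_iff.1 hz
    have h1 : s ^ n = 1 := by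
      apply Subtype.ext
      rw [Matrix.SpecialLinearGroup.coe_pow, ← hs, ← map_pow]
      rw [Fintype.card_fin] at hc
      rw [hc, map_one, Matrix.SpecialLinearGroup.coe_one]
    rw [h1, map_one]

/-- the order of the group of outer automorphisms -/
theorem card_out {F : Type} [Field F] [Fintype F] (r : ℕ) [Fact r.Prime] [CharP F r] {n : ℕ} (hn : 2 ≤ n)
    (h4 : n = 2 → 4 ≤ Fintype.card F) :
    Nat.card (Cfsg.Out (ProjectiveSpecialLinearGroup (Fin n) F)) =
      ((if n = 2 then 1 else 2) * Nat.gcd n (Fintype.card F - 1)) * Nat.card (F ≃+* F) := by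
  obtain ⟨f, hp, hf⟩ := FiniteField.card F r
  have hcard := S0813.result r f f.pos hf n hn (fun h => by rw [← hf]; exact h4 h)
  have hpgl : Nat.card (Matrix.ProjGenLinGroup (Fin n) F)
      = Nat.gcd n (Fintype.card F - 1) * Nat.card (Matrix.ProjectiveSpecialLinearGroup (Fin n) F) :=
    H183.OutPSL.card_pgl_eq hn
  have hf' : Nat.card (F ≃+* F) = f := Lib.FieldAutCard.card_ringAut f.pos hf
  have h1 := Cfsg.Agent.H546.FaGen.card_out_of_center (center (F := F) hn)
  rw [hcard, hpgl] at h1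
  apply Nat.eq_of_mul_eq_mul_right (Nat.card_pos (α := Matrix.ProjectiveSpecialLinearGroup (Fin n) F))
  rw [h1, hf']
  ring

/-- the subfield case -/
theorem centSyl {F : Type v} [Field F] [Fintype F] {p q : ℕ} (hp : p.Prime) (hq : q.Prime) (hpq : p ≠ q) {n : ℕ}
    (hn : 1 ≤ n) {φ : F ≃+* F} {k : ℕ} (hk : orderOf φ = q ^ k) (hpF : ¬ p ∣ Fintype.card F)
    (hd : ¬ q ∣ orderOf (Nat.card (Fx φ) : ZMod p)) :
    CentSyl p (Subgroup.zpowers ((lift.comp fld : (F ≃+* F) →* MulAut (ProjectiveSpecialLinearGroup (Fin n) F)) φ)) := by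
  have : Fact p.Prime := ⟨hp⟩
  have hft : Fintype (Fx φ) := Fintype.ofFinite _
  have hF := card_Fx φ
  rw [hk, Nat.card_eq_fintype_card, Nat.card_eq_fintype_card] at hF
  rw [Nat.card_eq_fintype_card] at hd
  have h1 : 1 < Fintype.card (Fx φ) := Fintype.one_lt_card
  have h0 : ¬ p ∣ Fintype.card (Fx φ) := by
    intro h
    apply hpF
    rw [hF]
    exact dvd_pow h (pow_ne_zero _ hq.ne_zero)
  refine centSyl_of_card (G := _root_.Matrix.SpecialLinearGroup (Fin n) F) (G₀ := _root_.Matrix.SpecialLinearGroup (Fin n) (Fx φ)) pr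
    pr_surjective (Matrix.SpecialLinearGroup.map (Fx φ).subtype) ?_ ?_ (fld φ) _ ?_ ?_
  · intro g h hgh
    apply Subtype.ext
    ext a b
    have h1 := congrArg (fun x : Matrix.SpecialLinearGroup (Fin n) F => (x.1 a b : F)) hgh
    exact h1
  · have e1 := fact_sl (F := F) hn hpF
    have e2 := fact_sl (F := Fx φ) hn h0
    have e3 : ∀ i : ℕ, (Fintype.card F ^ (i + 1) - 1).factorization p =
        (Fintype.card (Fx φ) ^ (i + 1) - 1).factorization p := by
      intro i
      rw [hF]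
      exact factorization_pow_sub_one hp hq hpq h1 h0 hd k (i + 1) (Nat.succ_ne_zero i)
    have e4 := e3 0
    rw [zero_add, pow_one, pow_one] at e4
    rw [Finset.sum_congr rfl fun i _ => e3 i, ← e2, e4] at e1
    exact Nat.add_left_cancel e1
  · intro x
    apply Subtype.ext
    ext a b
    exact (x.1 a b).2
  · intro g
    rfl

end PSL

/-- **row `PSL_n`, cross characteristic** -/
theorem row_psl_cross {p q r : ℕ} (hpr : p ≠ r) {G : Type u} [Group G] [Finite G] [IsSimpleGroup G]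
    (_hc : ∃ a b : G, a * b ≠ b * a) (hG : Cfsg.IsPSLChar r G) : SFact p q G := by
  obtain ⟨F, _, _, _, n, hn, h4, ⟨e⟩⟩ := hG
  refine sfact_congr e ?_
  have hr : r.Prime := CharP.char_is_prime F r
  have : Fact r.Prime := ⟨hr⟩
  intro hp hq hpq hqS
  have : Fact p.Prime := ⟨hp⟩
  have : Fact q.Prime := ⟨hq⟩
  have hcyc : IsCyclic (F ≃+* F) := Cfsg.Agent.LieRecognition.FieldSemilinear.isCyclic_ringAut F
  have hfin : Finite (F ≃+* F) := Finite.of_injective (fun f : F ≃+* F => (f : F → F)) DFunLike.coe_injective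
  have hqd := fun h => hqS (dvd_card (F := F) r hn hq h)
  have hqn : n < q := by
    by_contra h
    exact hqd (Or.inr (Or.inr (not_lt.1 h)))
  have hpF : ¬ p ∣ Fintype.card F := by
    obtain ⟨f, -, hf⟩ := FiniteField.card F r
    rw [hf]
    intro h
    exact hpr ((Nat.prime_dvd_prime_iff_eq hp hr).1 (hp.dvd_of_dvd_pow h))
  have hout := PSL.card_out (F := F) r hn h4
  set c := (if n = 2 then 1 else 2) * Nat.gcd n (Fintype.card F - 1) with hc
  have hgcd : ∀ s : ℕ, s.Prime → s ∣ c → s = 2 ∨ s ≤ n := by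
    intro s hs h
    rcases (Nat.Prime.dvd_mul hs).1 h with h1 | h1
    · left
      split_ifs at h1
      · exact absurd (Nat.dvd_one.1 h1) hs.one_lt.ne'
      · exact (Nat.prime_dvd_prime_iff_eq hs Nat.prime_two).1 h1
    · right
      exact Nat.le_of_dvd (by omega) (h1.trans (Nat.gcd_dvd_left _ _))
  have hqc : ¬ q ∣ c := by
    intro h
    rcases hgcd q hq h with h1 | h1
    · exact hqd (Or.inl h1)
    · omega
  have hpart : ∀ s : ℕ, s.Prime → ¬ s ∣ c → ∀ k : ℕ, s ^ k ∣ Nat.card (Cfsg.Out (ProjectiveSpecialLinearGroup (Fin n) F)) →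
      s ^ k ∣ Nat.card (F ≃+* F) := by
    intro s hs hsc k h
    rw [hout] at h
    exact (Nat.Coprime.pow_left k ((Nat.Prime.coprime_iff_not_dvd hs).2 hsc)).dvd_of_dvd_mul_left h
  have hinn : ∀ γ : F ≃+* F, γ ≠ 1 →
      (lift.comp fld : (F ≃+* F) →* MulAut (ProjectiveSpecialLinearGroup (Fin n) F)) γ ∉ Cfsg.Inn _ :=
    fun γ h1 h2 => h1 (eq_one_of_inn hn γ h2)
  have hne : ∀ γ : F ≃+* F, (orderOf γ).Prime → γ ≠ 1 := by
    rintro γ h1 rfl
    rw [orderOf_one] at h1
    exact Nat.not_prime_one h1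
  have hcop : ∀ φ : F ≃+* F, q ∣ orderOf (Nat.card (Fx φ) : ZMod p) → n < p ∧ p ≠ 2 := by
    intro φ h
    have h0 : ¬ p ∣ Nat.card (Fx φ) := by
      intro h0
      apply hpF
      rw [← Nat.card_eq_fintype_card, card_Fx φ]
      exact dvd_pow h0 (orderOf_pos φ).ne'
    obtain ⟨h1, h2⟩ := lt_of_dvd_order hp hq h0 h
    omega
  by_cases hpc : p ∣ c
  · refine sfact_of_coprime (center hn) (H254.isSolvable_out_of_sch (Schreier.ClassPSL.sch hn)) (lift.comp fld)
      (fun γ h1 => hinn γ (hne γ (h1 ▸ hq))) (hpart q hq hqc) ?_ hp hq hpq hqS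
    rintro - - - - φ hφ1 ⟨k, hk⟩
    refine PSL.centSyl hp hq hpq (by omega) hk hpF fun h => ?_
    obtain ⟨h1, h2⟩ := hcop φ h
    rcases hgcd p hp hpc with h3 | h3
    · exact h2 h3
    · omega
  · refine sfact_of_field (center hn) (H254.isSolvable_out_of_sch (Schreier.ClassPSL.sch hn)) (lift.comp fld)
      (fun γ h1 _ => hinn γ (hne γ h1)) (hpart p hp hpc) (hpart q hq hqc) ?_ hp hq hpq hqS
    rintro - - - - A Φ φ hφ1 hS hinv
    obtain ⟨k, hk⟩ := hS.φ
    by_cases hd : q ∣ orderOf (Nat.card (Fx φ) : ZMod p)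
    · obtain ⟨h1, h2⟩ := hcop φ hd
      by_cases hpS : p ∣ Nat.card (ProjectiveSpecialLinearGroup (Fin n) F)
      · exfalso
        refine Cfsg.Agent.H754.PQ.row_small_congr (Ψ := lift.comp fld) (ι := Fin n) ?_ hS
          (fun hp2 x hx hpw f hf hpw' β hβ hβA => congr_main hp2 hS.pA hinv hx hpw hβ hβA hf hpw')
          (by rw [Fintype.card_fin]; exact hqn) PSL.stab
          (PSL.prG n F) PSL.prG_surjective (fun z hz => (PSL.prG_ker hz).1) ?_ ?_ hpS hd
        · intro h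
          apply hpr
          rw [CharP.cast_eq_zero_iff F r] at h
          exact ((Nat.prime_dvd_prime_iff_eq hr hp).1 h).symm
        · intro h
          obtain ⟨z, hz⟩ := exists_prime_orderOf_dvd_card' p h
          have h3 : orderOf z ∣ n := by
            apply orderOf_dvd_of_pow_eq_one
            apply Subtype.ext
            exact (PSL.prG_ker z.2).2
          rw [hz] at h3
          have := Nat.le_of_dvd (by omega) h3
          omega
        · intro σ g
          obtain ⟨s, rfl⟩ := (PSL.eqv n F).surjective g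
          rw [PSL.fieldAut_eqv, PSL.prG_eqv, PSL.prG_eqv]
          rfl
      · exact centSyl_of_not_dvd hpS Φ
    · rw [hS.Φ]
      exact PSL.centSyl hp hq hpq (by omega) hk hpF hd

end Cfsg.Agent.H95.PQ
end

-- part: H353/PQ/Psp
section
/-!
# S4981, row `PSp_2m(q)` in cross characteristic (task 4180, helper353)

`row_psp_cross`.
-/

set_option autoImplicit false

namespace Cfsg.Agent.H353.PQ.Psp

open Subgroup Cfsg Cfsg.Agent.H54.PQ Cfsg.Agent.H967.CopMat Cfsg.Agent.H967.CopSec Cfsg.Agent.H546 Cfsg.Agent.H254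
open Cfsg.Agent.ClassicalGeometry.SympAutSemi Cfsg.Agent.ClassicalGeometry.SympGamma Cfsg.Agent.H24.FixPSp
open Cfsg.Agent.H754.PQ (row_small)
open Cfsg.Agent.H55.PQ.Red (sfact_congr sfact_of_field sfact_of_coprime)
open Cfsg.Agent.H219.PQ (centSyl_of_fix not_dvd_fx)

universe u

/-! ### the `p`-part of the order -/

theorem fact_card {p : ℕ} (hp : p.Prime) {E : Type*} [Field E] [Finite E] {m : ℕ} (hm : 1 ≤ m) (h0 : ¬ p ∣ Nat.card E) :
    (Nat.card (PSp m E)).factorization p + (if p = 2 then 1 else 0) =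
      ∑ i ∈ Finset.range m, (Nat.card E ^ (2 * (i + 1)) - 1).factorization p := by
  have := Fintype.ofFinite E
  have hq1 : 1 < Nat.card E := by rw [Nat.card_eq_fintype_card]; exact Fintype.one_lt_card
  have h1 := S0245.result (F := E) (Nat.card_eq_fintype_card (α := E)).symm m
  have h2 := S0246.result (F := E) (Nat.card_eq_fintype_card (α := E)).symm m hm
  rw [Subgroup.card_eq_card_quotient_mul_card_subgroup (Subgroup.center (Matrix.symplecticGroup (Fin m) E)), h2] at h1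
  have hfin : Finite (PSp m E) := Quotient.finite _
  have h3 : Nat.card (PSp m E) * Nat.gcd 2 (Nat.card E - 1) = Nat.card E ^ m ^ 2 *
    ∏ i ∈ Finset.range m, (Nat.card E ^ (2 * (i + 1)) - 1) := h1
  set q := Nat.card E with hq
  have h4 : ∀ i ∈ Finset.range m, q ^ (2 * (i + 1)) - 1 ≠ 0 := by
    intro i _
    have h3 : 1 < q ^ (2 * (i + 1)) := Nat.one_lt_pow (by omega) hq1
    omega
  have hg : Nat.gcd 2 (q - 1) ≠ 0 := by
    intro h
    have := (Nat.gcd_eq_zero_iff.1 h).1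
    omega
  have h5 := congrArg (fun k : ℕ => k.factorization p) h3
  have hc : Nat.card (PSp m E) ≠ 0 := Nat.card_pos.ne'
  change (Nat.card (PSp m E) * Nat.gcd 2 (q - 1)).factorization p =
    (q ^ m ^ 2 * ∏ i ∈ Finset.range m, (q ^ (2 * (i + 1)) - 1)).factorization p at h5
  rw [Nat.factorization_mul hc hg, Nat.factorization_mul (pow_ne_zero _ (by omega)) (Finset.prod_ne_zero_iff.2 h4),
    Finsupp.add_apply, Finsupp.add_apply, Nat.factorization_prod h4, Finsupp.finsetSum_apply,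
    Nat.factorization_eq_zero_of_not_dvd (n := q ^ m ^ 2) fun h => h0 (hp.dvd_of_dvd_pow h), zero_add] at h5
  rw [← h5]
  congr 1
  split_ifs with h6
  · subst h6
    have h7 : Nat.gcd 2 (q - 1) = 2 := Nat.gcd_eq_left (by
      have h8 : q % 2 = 1 := by omega
      exact ⟨q / 2, by omega⟩)
    rw [h7, Nat.Prime.factorization_self Nat.prime_two]
  · symm
    apply Nat.factorization_eq_zero_of_not_dvd
    intro h7
    exact h6 ((Nat.prime_dvd_prime_iff_eq hp Nat.prime_two).1 (h7.trans (Nat.gcd_dvd_left _ _)))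

section

variable {F : Type} [Field F] {m : ℕ}

/-- the subfield case -/
theorem centSyl [Finite F] {p q : ℕ} (hp : p.Prime) (hq : q.Prime) (hpq : p ≠ q) (hm : 1 ≤ m) {φ : F ≃+* F} {k : ℕ}
    (hk : orderOf φ = q ^ k) (h0 : ¬ p ∣ Nat.card (Fx φ)) (hd : ¬ q ∣ orderOf (Nat.card (Fx φ) : ZMod p)) :
    CentSyl p (Subgroup.zpowers (PSP.fld m φ)) := by
  have hpf : Fact p.Prime := ⟨hp⟩
  have hfin : Finite (PSp m F) := Quotient.finite _
  have hF := card_Fx φ
  rw [hk] at hF
  have := Fintype.ofFinite (Fx φ)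
  have h1 : 1 < Nat.card (Fx φ) := by rw [Nat.card_eq_fintype_card]; exact Fintype.one_lt_card
  have hpF : ¬ p ∣ Nat.card F := by
    rw [hF]
    exact fun h => h0 (hp.dvd_of_dvd_pow h)
  refine centSyl_of_fix _ ?_
  have e1 := fact_card hp (E := F) hm hpF
  have e2 := fact_card hp (E := Fx φ) hm h0
  have e3 : ∑ i ∈ Finset.range m, (Nat.card F ^ (2 * (i + 1)) - 1).factorization p =
      ∑ i ∈ Finset.range m, (Nat.card (Fx φ) ^ (2 * (i + 1)) - 1).factorization p := by
    refine Finset.sum_congr rfl fun i _ => ?_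
    rw [hF]
    exact H219.PQ.Arith.pow_sub_one hp hq hpq h1 h0 hd k _ (by omega)
  rw [e3, ← e2] at e1
  rw [Nat.add_right_cancel e1]
  exact (Nat.ordProj_dvd _ _).trans (sec_psp (m := m) (Fx φ).subtype fun b => b.2).card_dvd

/-! ### the matrix group -/

/-- the symplectic matrices as invertible matrices -/
def toG (m : ℕ) (F : Type) [Field F] : Matrix.symplecticGroup (Fin m) F →* GL (Fin m ⊕ Fin m) F where
  toFun A := ⟨(A : Matrix (Fin m ⊕ Fin m) (Fin m ⊕ Fin m) F), ((A⁻¹ : Matrix.symplecticGroup (Fin m) F) : Matrix (Fin m ⊕ Fin m) (Fin m ⊕ Fin m) F),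
    congrArg Subtype.val (mul_inv_cancel A), congrArg Subtype.val (inv_mul_cancel A)⟩
  map_one' := Units.ext rfl
  map_mul' _ _ := Units.ext rfl

theorem toG_injective : Function.Injective (toG m F) := fun _ _ h => Subtype.ext (congrArg Units.val h)

/-- `Sp ≃ Sp` in `GL` -/
noncomputable def eqv (m : ℕ) (F : Type) [Field F] : Matrix.symplecticGroup (Fin m) F ≃* ↥(toG m F).range :=
  MonoidHom.ofInjective toG_injective

theorem map_toG (σ : F ≃+* F) (A : Matrix.symplecticGroup (Fin m) F) :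
    Matrix.GeneralLinearGroup.map (σ : F →+* F) (toG m F A) = toG m F (spHom m (σ : F →+* F) A) :=
  Units.ext (Matrix.ext fun _ _ => rfl)

theorem stab : Stab (toG m F).range := by
  rintro σ _ ⟨A, rfl⟩
  exact ⟨_, (map_toG σ A).symm⟩

theorem fieldAut_eqv (σ : F ≃+* F) (A : Matrix.symplecticGroup (Fin m) F) :
    fieldAut stab σ (eqv m F A) = eqv m F (spHom m (σ : F →+* F) A) :=
  Subtype.ext (map_toG σ A)

theorem conjHom_frob (σ : F ≃+* F) (A : Matrix.symplecticGroup (Fin m) F) :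
    conjHom m F (PSP.frobSS m σ) A = spHom m (σ : F →+* F) A := by
  apply rho_injective
  rw [rho_conjHom, mul_inv_eq_iff_eq_mul]
  ext1 v
  rw [Equiv.Perm.mul_apply, Equiv.Perm.mul_apply, rho_apply, rho_apply]
  change (fun i => σ (((A : Matrix (Fin m ⊕ Fin m) (Fin m ⊕ Fin m) F).mulVec v) i)) =
    ((spHom m (σ : F →+* F) A : Matrix (Fin m ⊕ Fin m) (Fin m ⊕ Fin m) F)).mulVec (fun i => σ (v i))
  funext i
  simp only [Matrix.mulVec, dotProduct, map_sum, map_mul, spHom_coe, Matrix.map_apply]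
  rfl

/-- the projection -/
noncomputable def prj (m : ℕ) (F : Type) [Field F] : ↥(toG m F).range →* PSp m F :=
  (QuotientGroup.mk' (center (Matrix.symplecticGroup (Fin m) F))).comp (eqv m F).symm.toMonoidHom

theorem prj_eqv (A : Matrix.symplecticGroup (Fin m) F) : prj m F (eqv m F A) = (QuotientGroup.mk A : PSp m F) := by
  change (QuotientGroup.mk ((eqv m F).symm (eqv m F A)) : PSp m F) = _
  rw [MulEquiv.symm_apply_apply]

theorem prj_surjective : Function.Surjective (prj m F) := by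
  intro x
  obtain ⟨A, rfl⟩ := QuotientGroup.mk_surjective x
  exact ⟨eqv m F A, prj_eqv A⟩

theorem mem_ker_prj (A : Matrix.symplecticGroup (Fin m) F) :
    eqv m F A ∈ (prj m F).ker ↔ A ∈ center (Matrix.symplecticGroup (Fin m) F) := by
  rw [MonoidHom.mem_ker, prj_eqv]
  exact QuotientGroup.eq_one_iff _

theorem ker_central : ∀ z ∈ (prj m F).ker, z ∈ center ↥(toG m F).range := by
  intro z hz
  obtain ⟨A, rfl⟩ := (eqv m F).surjective z
  rw [mem_ker_prj] at hz
  rw [Subgroup.mem_center_iff]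
  intro g
  obtain ⟨B, rfl⟩ := (eqv m F).surjective g
  rw [← map_mul, ← map_mul, Subgroup.mem_center_iff.1 hz B]

theorem card_ker [Fintype F] (hm : 1 ≤ m) : Nat.card (prj m F).ker = Nat.gcd 2 (Fintype.card F - 1) := by
  rw [← S0246.result (F := F) rfl m hm]
  refine (Nat.card_congr (Equiv.subtypeEquiv (eqv m F).toEquiv fun A => ?_)).symm
  exact (mem_ker_prj A).symm

theorem prj_fieldAut (σ : F ≃+* F) (g : ↥(toG m F).range) : prj m F (fieldAut stab σ g) = PSP.fld m σ (prj m F g) := by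
  obtain ⟨A, rfl⟩ := (eqv m F).surjective g
  rw [fieldAut_eqv, prj_eqv, prj_eqv]
  change _ = Psi m F (PSP.frobSS m σ) (QuotientGroup.mk A)
  rw [Psi_mk, conjHom_frob]

/-- **the row** -/
theorem sfact [Fintype F] {p q r : ℕ} [CharP F r] (hpr : p ≠ r) (hm : 2 ≤ m) (h3 : m = 2 → 3 ≤ Fintype.card F) :
    SFact p q (PSp m F) := by
  intro hp hq hpq hqS
  have hpf : Fact p.Prime := ⟨hp⟩
  have hqf : Fact q.Prime := ⟨hq⟩
  obtain ⟨f, hr, hf⟩ := FiniteField.card F r
  have hrf : Fact r.Prime := ⟨hr⟩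
  have hfin : Finite (PSp m F) := Quotient.finite _
  have hfinR : Finite (F ≃+* F) :=
    Finite.of_injective (fun α : F ≃+* F => (α : F → F)) (fun α β h => RingEquiv.ext fun x => congrFun h x)
  have hcyc : IsCyclic (F ≃+* F) := LieRecognition.FieldSemilinear.isCyclic_ringAut F
  have hq2 : q ≠ 2 := fun h => hqS (h ▸ FaPSp.dvd_card (F := F) r hm Nat.prime_two (Or.inl rfl))
  have hmq : 2 * m < q := by
    by_contra hcon
    exact hqS (FaPSp.dvd_card (F := F) r hm hq (Or.inr (Or.inr (by omega))))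
  have hcard := S0814.result r f f.pos hf m hm (fun h => by rw [← hf]; exact h3 h)
  have hf' : Nat.card (F ≃+* F) = f := Lib.FieldAutCard.card_ringAut f.pos hf
  have hZ := FaPSp.center (F := F) (m := m) (by omega)
  have hsol : Group.IsSolvable (Cfsg.Out (PSp m F)) :=
    H254.isSolvable_out_of_sch (Schreier.ClassPSp.sch hm (fun h => by rw [Nat.card_eq_fintype_card]; exact h3 h))
  have hO : Nat.card (Cfsg.Out (PSp m F)) ∣ 4 * Nat.card (F ≃+* F) := by
    have h1 := FaGen.card_out_of_center hZ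
    rw [hcard] at h1
    rw [Nat.eq_of_mul_eq_mul_right (Nat.card_pos (α := PSp m F)) h1, hf']
    have h6 : Nat.gcd 2 (r ^ (f : ℕ) - 1) ∣ 2 := Nat.gcd_dvd_left _ _
    have h7 : (if m = 2 ∧ r = 2 then 2 else 1) ∣ 2 := by
      split_ifs
      · exact dvd_rfl
      · exact one_dvd _
    have h8 : (4 : ℕ) = 2 * 2 := by norm_num
    rw [h8]
    exact Nat.mul_dvd_mul_right (Nat.mul_dvd_mul h7 h6) _
  have hdiv : ∀ s : ℕ, s.Prime → s ≠ 2 → ∀ k : ℕ, s ^ k ∣ Nat.card (Cfsg.Out (PSp m F)) → s ^ k ∣ Nat.card (F ≃+* F) := by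
    intro s hs hs2 k hk
    have h4 : s.Coprime 4 := by
      have h5 : s.Coprime (2 ^ 2) := ((Nat.coprime_primes hs Nat.prime_two).2 hs2).pow_right 2
      exact h5
    exact (h4.pow_left k).dvd_of_dvd_mul_left (hk.trans hO)
  by_cases hp2 : p = 2
  · refine sfact_of_coprime hZ hsol (PSP.fld m) ?_ (hdiv q hq hq2) ?_ hp hq hpq hqS
    · intro γ hγ hi
      rw [FaPSp.eq_one_of_inn (by omega) γ hi, orderOf_one] at hγ
      exact hq.one_lt.ne hγ
    · rintro _ _ _ _ φ _ ⟨k, hk⟩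
      refine centSyl hp hq hpq (by omega) hk (not_dvd_fx hp hpr φ) fun hd => ?_
      have h5 := (H219.PQ.Arith.lt_of_dvd_order hp (not_dvd_fx hp hpr φ) hd).2
      omega
  · refine sfact_of_field hZ hsol (PSP.fld m) ?_ (hdiv p hp hp2) (hdiv q hq hq2) ?_ hp hq hpq hqS
    · intro γ hγ _ hi
      rw [FaPSp.eq_one_of_inn (by omega) γ hi, orderOf_one] at hγ
      exact Nat.not_prime_one hγ
    · intro _ _ _ _ A Φ φ _ hs hinv
      obtain ⟨k, hk⟩ := hs.φ
      by_cases hd : q ∣ orderOf (Nat.card (Fx φ) : ZMod p)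
      · by_cases hpS : p ∣ Nat.card (PSp m F)
        · exfalso
          refine row_small (F := F) (ι := Fin m ⊕ Fin m) (G := (toG m F).range) ?_ (PSP.fld m) hs hinv ?_ stab
            (prj m F) prj_surjective ker_central ?_ prj_fieldAut hpS hd
          · intro h
            have h2 : r ∣ p := (CharP.cast_eq_zero_iff F r p).1 h
            exact hpr ((Nat.prime_dvd_prime_iff_eq hr hp).1 h2).symm
          · rw [Fintype.card_sum, Fintype.card_fin]
            omega
          · rw [card_ker (by omega)]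
            intro h
            exact hp2 ((Nat.prime_dvd_prime_iff_eq hp Nat.prime_two).1 (h.trans (Nat.gcd_dvd_left _ _)))
        · exact centSyl_of_not_dvd hpS Φ
      · rw [hs.Φ]
        exact centSyl hp hq hpq (by omega) hk (not_dvd_fx hp hpr φ) hd

end

/-- **S4981, `PSp_2m` in cross characteristic.** -/
theorem row_psp_cross {p q r : ℕ} (hpr : p ≠ r) {G : Type u} [Group G] [Finite G] [IsSimpleGroup G]
    (_hc : ∃ a b : G, a * b ≠ b * a) (hG : Cfsg.IsPSpChar r G) : SFact p q G := by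
  obtain ⟨F, _, _, hchar, m, hm, h3, ⟨e⟩⟩ := hG
  exact sfact_congr e (sfact hpr hm h3)

end Cfsg.Agent.H353.PQ.Psp
end

-- part: H89/PQ/Psu
section
/-!
# S4981, row `PSU_n(q)` in cross characteristic (task 4181, helper89)

`row_psu_cross`.
-/

set_option autoImplicit false

namespace Cfsg.Agent.H89.PQ.Psu

open Subgroup Cfsg Cfsg.Agent.H54.PQ Cfsg.Agent.H967.CopMat Cfsg.Agent.H546 Cfsg.Agent.H254 Cfsg.Agent.H918
open Cfsg.Agent.ClassicalGeometry.PSUAutCount Cfsg.Agent.LieClassical.HermSiegel Cfsg.Agent.LieClassical.FieldTransfer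
open Cfsg.Agent.ClassicalGeometry.UnitAutBasic (pr pr_surjective)
open Cfsg.Agent.H754.PQ (row_small)
open Cfsg.Agent.H173.PQ (centSyl_of_card factorization_pow_sub_one factorization_pow_add_one lt_of_dvd_order)
open Cfsg.Agent.H55.PQ.Red (sfact_congr sfact_of_field sfact_of_coprime)

universe u

section

variable {F : Type} [Field F] [Fintype F] {n m : ℕ}

/-- the parameter of the fixed field -/
theorem exists_param (hF : Fintype.card F = m ^ 2) {φ : F ≃+* F} (ho : Odd (orderOf φ)) :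
    ∃ q₀ : ℕ, 1 < q₀ ∧ Nat.card (Fx φ) = q₀ ^ 2 ∧ m = q₀ ^ orderOf φ := by
  obtain ⟨r, hchar⟩ := CharP.exists F
  obtain ⟨e, hp, he⟩ := FiniteField.card F r
  have hrf : Fact r.Prime := ⟨hp⟩
  obtain ⟨f, hf1, hq⟩ : ∃ f : ℕ, 1 ≤ f ∧ m = r ^ f := by
    have h1 : m ∣ r ^ (e : ℕ) := by rw [← he, hF]; exact dvd_pow_self m two_ne_zero
    obtain ⟨f, -, hf⟩ := (Nat.dvd_prime_pow hp).1 h1
    refine ⟨f, ?_, hf⟩
    rcases Nat.eq_zero_or_pos f with h0 | h0
    · exfalso
      rw [h0, pow_zero] at hf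
      rw [hf, one_pow] at hF
      have := Fintype.one_lt_card (α := F)
      omega
    · exact h0
  have hf' : Nat.card (F ≃+* F) = 2 * f :=
    Lib.FieldAutCard.card_ringAut (p := r) (by omega) (by rw [hF, hq, ← pow_mul, mul_comm])
  have hfinR : Finite (F ≃+* F) :=
    Finite.of_injective (fun α : F ≃+* F => (α : F → F)) (fun α β h => RingEquiv.ext fun x => congrFun h x)
  have hdvd : orderOf φ ∣ 2 * f := by rw [← hf']; exact _root_.orderOf_dvd_natCard φ
  obtain ⟨t, ht⟩ : orderOf φ ∣ f := (Nat.Coprime.dvd_of_dvd_mul_left (by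
    rw [Nat.coprime_comm]; exact Nat.coprime_two_left.2 ho) hdvd)
  have hcE : Nat.card F = Nat.card (Fx φ) ^ orderOf φ := card_Fx φ
  have hne : orderOf φ ≠ 0 := by
    intro h0
    rw [h0] at ho
    exact absurd ho (by decide)
  have hq₀ : m = (r ^ t) ^ orderOf φ := by rw [hq, ht, ← pow_mul, mul_comm]
  have ht0 : t ≠ 0 := by
    rintro rfl
    omega
  refine ⟨r ^ t, Nat.one_lt_pow ht0 hp.one_lt, ?_, hq₀⟩
  have h3 : Nat.card (Fx φ) ^ orderOf φ = ((r ^ t) ^ 2) ^ orderOf φ := by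
    rw [← hcE, Nat.card_eq_fintype_card, hF, hq₀, ← pow_mul, ← pow_mul, ← pow_mul, ← pow_mul]
    congr 1
    ring
  exact Nat.pow_left_injective hne h3

omit [Fintype F] in
theorem fld_pr (φ : F ≃+* F) (g : SU n F m) : PSUn.fld n m φ (pr n F m g) = pr n F m (suCongr n m φ g) := by
  rw [PSUn.fld_apply, toAut_pr]
  congr 1
  have h1 : gm (1 : Cfsg.GU n F m) = 1 := rfl
  have h2 : mat (semiConj (1 : Cfsg.GU n F m) φ g) =
      gm (1 : Cfsg.GU n F m) * mat (suCongr n m φ g) * gm (1 : Cfsg.GU n F m)⁻¹ := rfl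
  rw [inv_one, h1, one_mul, mul_one] at h2
  apply Subtype.ext
  apply Subtype.ext
  exact h2

/-- `SU_n` over the fixed field -/
theorem exists_emb (hF : Fintype.card F = m ^ 2) (φ : F ≃+* F) (ho : Odd (orderOf φ)) {q₀ : ℕ}
    (h0 : Nat.card (Fx φ) = q₀ ^ 2) (hm : m = q₀ ^ orderOf φ) :
    ∃ j : SU n (Fx φ) q₀ →* SU n F m, Function.Injective j ∧ ∀ x, suCongr n m φ (j x) = j x := by
  have hfE : Fintype (Fx φ) := Fintype.ofFinite _
  have hE : Fintype.card (Fx φ) = q₀ ^ 2 := by rw [← Nat.card_eq_fintype_card]; exact h0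
  refine ⟨((Matrix.SpecialLinearGroup.map (n := Fin n) (Fx φ).subtype).comp (SU n (Fx φ) q₀).subtype).codRestrict
    (SU n F m) (fun g => H961.FixLin.mem_SU_map hF hE ho hm (Fx φ).subtype g.2), ?_, ?_⟩
  · intro g h hgh
    apply Subtype.ext
    apply Subtype.ext
    ext a b
    exact congrArg (fun x : SU n F m => x.1.1 a b) hgh
  · intro x
    apply Subtype.ext
    apply Subtype.ext
    ext a b
    exact (x.1.1 a b).2

/-- `p`-part of the order of `SU_n` -/
theorem factorization_card {p q : ℕ} (hp : p.Prime) (hq : q.Prime) (hq2 : q ≠ 2) (hpq : p ≠ q) (hn : 1 ≤ n)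
    {E : Type} [Field E] [Fintype E] {q₀ k : ℕ}
    (h1 : 1 < q₀) (hF : Fintype.card F = m ^ 2) (hE : Fintype.card E = q₀ ^ 2) (hm : m = q₀ ^ q ^ k) (h0 : ¬ p ∣ q₀)
    (hd : ¬ q ∣ orderOf (q₀ : ZMod p)) :
    (Nat.card (SU n F m)).factorization p = (Nat.card (SU n E q₀)).factorization p := by
  have hF' := S0278.result hF n hn
  have hE' := S0278.result hE n hn
  have hm1 : 1 < m := by
    rw [hm]
    exact Nat.one_lt_pow (pow_ne_zero _ hq.ne_zero) h1
  have hpm : ¬ p ∣ m := by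
    rw [hm]
    exact fun h => h0 (hp.dvd_of_dvd_pow h)
  have key : ∀ a : ℕ, 1 < a → ∀ i ∈ Finset.range n, (if Even i then a ^ (i + 1) + 1 else a ^ (i + 1) - 1) ≠ 0 := by
    intro a ha i _
    have h2 : 1 < a ^ (i + 1) := Nat.one_lt_pow (Nat.succ_ne_zero i) ha
    split_ifs <;> omega
  have hfac : ∀ a : ℕ, 1 < a → ¬ p ∣ a → ∀ c : ℕ, (a + 1) * c = a ^ (n * (n - 1) / 2) *
      ∏ i ∈ Finset.range n, (if Even i then a ^ (i + 1) + 1 else a ^ (i + 1) - 1) →
      (a + 1).factorization p + c.factorization p =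
        ∑ i ∈ Finset.range n, (if Even i then a ^ (i + 1) + 1 else a ^ (i + 1) - 1).factorization p := by
    intro a ha hpa c hc
    have hc0 : c ≠ 0 := by
      rintro rfl
      rw [mul_zero] at hc
      exact mul_ne_zero (pow_ne_zero _ (by omega)) (Finset.prod_ne_zero_iff.2 (key a ha)) hc.symm
    have h2 : ((a + 1) * c).factorization p = (a ^ (n * (n - 1) / 2) *
      ∏ i ∈ Finset.range n, (if Even i then a ^ (i + 1) + 1 else a ^ (i + 1) - 1)).factorization p := by rw [hc]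
    rw [Nat.factorization_mul (by omega) hc0, Nat.factorization_mul (pow_ne_zero _ (by omega))
      (Finset.prod_ne_zero_iff.2 (key a ha)), Finsupp.add_apply, Finsupp.add_apply,
      Nat.factorization_prod (fun i hi => key a ha i hi), Finsupp.finsetSum_apply, Nat.factorization_pow,
      Finsupp.smul_apply, Nat.factorization_eq_zero_of_not_dvd hpa, smul_zero, zero_add] at h2
    exact h2
  have e1 := hfac m hm1 hpm _ hF'
  have e2 := hfac q₀ h1 h0 _ hE'
  have e3 : (m + 1).factorization p = (q₀ + 1).factorization p := by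
    have := factorization_pow_add_one hp hq hq2 hpq h1 h0 hd k 1 one_ne_zero
    rwa [← hm, pow_one, pow_one] at this
  have e4 : ∑ i ∈ Finset.range n, (if Even i then m ^ (i + 1) + 1 else m ^ (i + 1) - 1).factorization p =
      ∑ i ∈ Finset.range n, (if Even i then q₀ ^ (i + 1) + 1 else q₀ ^ (i + 1) - 1).factorization p := by
    refine Finset.sum_congr rfl fun i _ => ?_
    split_ifs
    · have := factorization_pow_add_one hp hq hq2 hpq h1 h0 hd k (i + 1) (Nat.succ_ne_zero i)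
      rwa [← hm] at this
    · have := factorization_pow_sub_one hp hq hpq h1 h0 hd k (i + 1) (Nat.succ_ne_zero i)
      rwa [← hm] at this
  rw [e3, e4, ← e2] at e1
  exact Nat.add_left_cancel e1

/-- `φ` centralises a Sylow `p`-subgroup if `q` does not divide the order of `q₀` modulo `p` -/
theorem centSyl {p q : ℕ} (hp : p.Prime) (hq : q.Prime) (hq2 : q ≠ 2) (hpq : p ≠ q) (hn : 3 ≤ n)
    (hF : Fintype.card F = m ^ 2) (hpm : ¬ p ∣ m) {φ : F ≃+* F} (hφ : ∃ k : ℕ, orderOf φ = q ^ k)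
    {q₀ : ℕ} (h1 : 1 < q₀) (h0 : Nat.card (Fx φ) = q₀ ^ 2) (hm : m = q₀ ^ orderOf φ)
    (hd : ¬ q ∣ orderOf (q₀ : ZMod p)) : CentSyl p (Subgroup.zpowers (PSUn.fld n m φ)) := by
  have hpf : Fact p.Prime := ⟨hp⟩
  have hfin : Finite (PSU n F m) := Quotient.finite _
  obtain ⟨k, hk⟩ := hφ
  have ho : Odd (orderOf φ) := by
    rw [hk]
    exact (hq.odd_of_ne_two hq2).pow
  obtain ⟨j, hj, hjx⟩ := exists_emb (n := n) hF φ ho h0 hm
  have hfE : Fintype (Fx φ) := Fintype.ofFinite _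
  have hE : Fintype.card (Fx φ) = q₀ ^ 2 := by rw [← Nat.card_eq_fintype_card]; exact h0
  have hpq0 : ¬ p ∣ q₀ := fun h => hpm (by
    rw [hm, hk]
    exact h.trans (dvd_pow_self q₀ (pow_ne_zero _ hq.ne_zero)))
  refine centSyl_of_card (pr n F m) pr_surjective j hj ?_ (suCongr n m φ) (PSUn.fld n m φ) hjx ?_
  · exact factorization_card hp hq hq2 hpq (by omega) h1 hF hE (by rw [hm, hk]) hpq0 hd
  · intro g
    exact (fld_pr φ g).symm

/-! ### the matrix group -/

/-- `SU_n` and its image in `GL_n` -/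
noncomputable def eqv (n : ℕ) (F : Type) [Field F] (m : ℕ) : SU n F m ≃* ↥(SUg n F m) :=
  MulEquiv.ofBijective ((suHom n F m).codRestrict (SUg n F m) suHom_mem)
    ⟨fun _ _ h => suHom_injective (congrArg Subtype.val h), fun g => by
      obtain ⟨A, hA⟩ := exists_suHom g.2
      exact ⟨A, Subtype.ext hA⟩⟩

omit [Fintype F] in
theorem map_eqv (σ : F ≃+* F) (A : SU n F m) :
    Matrix.GeneralLinearGroup.map (σ : F →+* F) (suHom n F m A) = suHom n F m (suCongr n m σ A) := by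
  refine Units.ext (Matrix.ext fun i j => ?_)
  rfl

omit [Fintype F] in
theorem stab : Stab (SUg n F m) := by
  intro σ g hg
  obtain ⟨A, rfl⟩ := exists_suHom hg
  rw [map_eqv]
  exact suHom_mem _

omit [Fintype F] in
theorem fieldAut_eqv (σ : F ≃+* F) (A : SU n F m) :
    fieldAut stab σ (eqv n F m A) = eqv n F m (suCongr n m σ A) :=
  Subtype.ext (map_eqv σ A)

/-- the projection -/
noncomputable def prj (n : ℕ) (F : Type) [Field F] (m : ℕ) : ↥(SUg n F m) →* PSU n F m :=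
  (pr n F m).comp (eqv n F m).symm.toMonoidHom

omit [Fintype F] in
theorem prj_eqv (A : SU n F m) : prj n F m (eqv n F m A) = pr n F m A := by
  change pr n F m ((eqv n F m).symm (eqv n F m A)) = _
  rw [MulEquiv.symm_apply_apply]

omit [Fintype F] in
theorem prj_surjective : Function.Surjective (prj n F m) := by
  intro x
  obtain ⟨A, rfl⟩ := pr_surjective x
  exact ⟨eqv n F m A, prj_eqv A⟩

omit [Fintype F] in
theorem mem_ker_prj (A : SU n F m) : eqv n F m A ∈ (prj n F m).ker ↔ A ∈ center (SU n F m) := by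
  rw [MonoidHom.mem_ker, prj_eqv]
  exact QuotientGroup.eq_one_iff _

omit [Fintype F] in
theorem ker_central : ∀ z ∈ (prj n F m).ker, z ∈ center ↥(SUg n F m) := by
  intro z hz
  obtain ⟨A, rfl⟩ := (eqv n F m).surjective z
  rw [mem_ker_prj] at hz
  rw [Subgroup.mem_center_iff]
  intro g
  obtain ⟨B, rfl⟩ := (eqv n F m).surjective g
  rw [← map_mul, ← map_mul, Subgroup.mem_center_iff.1 hz B]

theorem card_ker (hF : Fintype.card F = m ^ 2) (hn : 3 ≤ n) : Nat.card (prj n F m).ker = Nat.gcd n (m + 1) := by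
  rw [← S0279.result hF n hn]
  refine (Nat.card_congr (Equiv.subtypeEquiv (eqv n F m).toEquiv fun A => ?_)).symm
  exact (mem_ker_prj A).symm

/-- `q` divides the order of `q₀` modulo `p` -/
theorem small {p q : ℕ} (hp : p.Prime) (hq : q.Prime) (hq2 : q ≠ 2) (hn : 3 ≤ n) (hnq : n < q)
    (hF : Fintype.card F = m ^ 2) (hpm : ¬ p ∣ m) {φ : F ≃+* F}
    {q₀ : ℕ} (h0 : Nat.card (Fx φ) = q₀ ^ 2) (hpq0 : ¬ p ∣ q₀)
    (hd : q ∣ orderOf (q₀ : ZMod p)) {A Φ : Subgroup (MulAut (PSU n F m))} (hs : FSit p q (PSUn.fld n m) A Φ φ)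
    (hinv : InvHyp p A Φ) : CentSyl p Φ := by
  have hpf : Fact p.Prime := ⟨hp⟩
  have hqf : Fact q.Prime := ⟨hq⟩
  have hfin : Finite (PSU n F m) := Quotient.finite _
  by_cases hpS : p ∣ Nat.card (PSU n F m)
  · exfalso
    obtain ⟨-, hlt⟩ := lt_of_dvd_order hp hq hpq0 hd
    refine row_small (F := F) (ι := Fin n) (G := SUg n F m) ?_ (PSUn.fld n m) hs hinv ?_ stab (prj n F m)
      prj_surjective ker_central ?_ ?_ hpS ?_
    · intro h
      obtain ⟨r, hchar⟩ := CharP.exists F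
      obtain ⟨e, hr, he⟩ := FiniteField.card F r
      have h2 : r ∣ p := (CharP.cast_eq_zero_iff F r p).1 h
      have h3 : r = p := (Nat.prime_dvd_prime_iff_eq hr hp).1 h2
      have h4 : r ∣ m ^ 2 := by
        rw [← hF, he]
        exact dvd_pow_self r e.pos.ne'
      exact hpm (h3 ▸ hr.dvd_of_dvd_pow h4)
    · rw [Fintype.card_fin]
      exact hnq
    · rw [card_ker hF hn]
      intro h
      have := Nat.le_of_dvd (by omega) (h.trans (Nat.gcd_dvd_left _ _))
      omega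
    · intro σ g
      obtain ⟨B, rfl⟩ := (eqv n F m).surjective g
      rw [fieldAut_eqv, prj_eqv, prj_eqv, fld_pr]
    · rw [h0, Nat.cast_pow]
      have h2 : orderOf (q₀ : ZMod p) ∣ 2 * orderOf ((q₀ : ZMod p) ^ 2) := by
        apply orderOf_dvd_of_pow_eq_one
        rw [pow_mul, pow_orderOf_eq_one]
      have h3 : q.Coprime 2 := (Nat.coprime_primes hq Nat.prime_two).2 hq2
      exact h3.dvd_of_dvd_mul_left (hd.trans h2)
  · exact centSyl_of_not_dvd hpS Φ

/-- **the row** -/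
theorem sfact {p q r : ℕ} [CharP F r] (hpr : p ≠ r) (hF : Fintype.card F = m ^ 2) (hn : 3 ≤ n)
    (h32 : ¬ (n = 3 ∧ m = 2)) : SFact p q (PSU n F m) := by
  intro hp hq hpq hqS
  obtain ⟨e, hr, he⟩ := FiniteField.card F r
  have hrf : Fact r.Prime := ⟨hr⟩
  have hfin : Finite (PSU n F m) := Quotient.finite _
  have hq2 : q ≠ 2 := fun h => hqS (h ▸ FaPSU.dvd_card hF r hn Nat.prime_two (Or.inl rfl))
  have hnq : n < q := by
    by_contra hcon
    exact hqS (FaPSU.dvd_card hF r hn hq (Or.inr (Or.inr (by omega))))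
  have hqc : ¬ q ∣ Nat.gcd n (m + 1) := fun h => by
    have := Nat.le_of_dvd (by omega) (h.trans (Nat.gcd_dvd_left _ _))
    omega
  have hpm : ¬ p ∣ m := by
    intro h
    have h2 : p ∣ r ^ (e : ℕ) := by
      rw [← he, hF]
      exact h.trans (dvd_pow_self m two_ne_zero)
    exact hpr ((Nat.prime_dvd_prime_iff_eq hp hr).1 (hp.dvd_of_dvd_pow h2))
  obtain ⟨f, hf1, hm⟩ : ∃ f : ℕ, 1 ≤ f ∧ m = r ^ f := by
    have h1 : m ∣ r ^ (e : ℕ) := by rw [← he, hF]; exact dvd_pow_self m two_ne_zero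
    obtain ⟨f, -, hf⟩ := (Nat.dvd_prime_pow hr).1 h1
    refine ⟨f, ?_, hf⟩
    rcases Nat.eq_zero_or_pos f with h0 | h0
    · exfalso
      rw [h0, pow_zero] at hf
      rw [hf, one_pow] at hF
      have := Fintype.one_lt_card (α := F)
      omega
    · exact h0
  have hcard := S0815.result r f hf1 hm hF n hn h32
  have hf' : Nat.card (F ≃+* F) = 2 * f :=
    Lib.FieldAutCard.card_ringAut (p := r) (by omega) (by rw [hF, hm, ← pow_mul, mul_comm])
  have hZ := FaPSU.center hF hn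
  have hO : Nat.card (Cfsg.Out (PSU n F m)) = Nat.gcd n (m + 1) * Nat.card (F ≃+* F) := by
    have h1 := FaGen.card_out_of_center hZ
    rw [hcard] at h1
    rw [Nat.eq_of_mul_eq_mul_right (Nat.card_pos (α := PSU n F m)) h1, hf']
  have hsol := H254.isSolvable_out_of_sch (Schreier.PSU.sch hF hn h32)
  have hfinR : Finite (F ≃+* F) :=
    Finite.of_injective (fun α : F ≃+* F => (α : F → F)) (fun α β h => RingEquiv.ext fun x => congrFun h x)
  have hcyc : IsCyclic (F ≃+* F) := LieRecognition.FieldSemilinear.isCyclic_ringAut F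
  have hdiv : ∀ s : ℕ, s.Prime → ¬ s ∣ Nat.gcd n (m + 1) → ∀ k : ℕ, s ^ k ∣ Nat.card (Cfsg.Out (PSU n F m)) →
      s ^ k ∣ Nat.card (F ≃+* F) := by
    intro s hs hsc k hk
    rw [hO] at hk
    exact Nat.Coprime.dvd_of_dvd_mul_left (Nat.Coprime.pow_left k ((Nat.Prime.coprime_iff_not_dvd hs).2 hsc)) hk
  have hpar : ∀ φ : F ≃+* F, (∃ k : ℕ, orderOf φ = q ^ k) → Odd (orderOf φ) := by
    rintro φ ⟨k, hk⟩
    rw [hk]
    exact (hq.odd_of_ne_two hq2).pow
  have hpq0 : ∀ (φ : F ≃+* F) (q₀ : ℕ), m = q₀ ^ orderOf φ → ¬ p ∣ q₀ := by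
    intro φ q₀ h h2
    apply hpm
    rw [h]
    exact h2.trans (dvd_pow_self q₀ (orderOf_pos φ).ne')
  by_cases hpc : p ∣ Nat.gcd n (m + 1)
  · have hpn : p ≤ n := Nat.le_of_dvd (by omega) (hpc.trans (Nat.gcd_dvd_left _ _))
    refine sfact_of_coprime hZ hsol (PSUn.fld n m) ?_ (hdiv q hq hqc) ?_ hp hq hpq hqS
    · intro γ hγ hi
      rw [FaPSU.eq_one_of_inn hF hn γ hi, orderOf_one] at hγ
      exact hq.one_lt.ne hγ
    · intro _ _ _ _ φ _ hφ
      obtain ⟨q₀, h1, h0, hmq⟩ := exists_param hF (hpar φ hφ)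
      refine centSyl hp hq hq2 hpq hn hF hpm hφ h1 h0 hmq fun hd => ?_
      obtain ⟨-, hlt⟩ := lt_of_dvd_order hp hq (hpq0 φ q₀ hmq) hd
      omega
  · refine sfact_of_field hZ hsol (PSUn.fld n m) ?_ (hdiv p hp hpc) (hdiv q hq hqc) ?_ hp hq hpq hqS
    · intro γ hγ _ hi
      rw [FaPSU.eq_one_of_inn hF hn γ hi, orderOf_one] at hγ
      exact Nat.not_prime_one hγ
    · intro _ _ _ _ A Φ φ _ hs hinv
      obtain ⟨q₀, h1, h0, hmq⟩ := exists_param hF (hpar φ hs.φ)
      by_cases hd : q ∣ orderOf (q₀ : ZMod p)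
      · exact small hp hq hq2 hn hnq hF hpm h0 (hpq0 φ q₀ hmq) hd hs hinv
      · rw [hs.Φ]
        exact centSyl hp hq hq2 hpq hn hF hpm hs.φ h1 h0 hmq hd

end

/-- **S4981, `PSU_n` in cross characteristic.** -/
theorem row_psu_cross {p q r : ℕ} (hpr : p ≠ r) {G : Type u} [Group G] [Finite G] [IsSimpleGroup G]
    (_hc : ∃ a b : G, a * b ≠ b * a) (hG : Cfsg.IsPSUChar r G) : SFact p q G := by
  obtain ⟨F, _, _, hchar, n, m, hF, hn, h32, ⟨e⟩⟩ := hG
  exact sfact_congr e (sfact hpr hF hn h32)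

end Cfsg.Agent.H89.PQ.Psu
end

-- part: H77/PQOrthA
section
/-!
# S4981 on the orthogonal groups in cross characteristic: the matrix group (helper77)

* `centSyl_of_fix`, `centSyl_of_sec` : a section of the fixed points with the full `p`-part of the order;
* `stab_om`, `omPi Q : omGL Q →* PΩ(F, Q)`, `omPi_surjective`, `ker_omPi_central`, `not_dvd_ker`, `omPi_fieldAut`.
-/

set_option autoImplicit false
set_option linter.unusedSectionVars false

namespace Cfsg.Agent.H77.PQOrthA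

open Cfsg Matrix QuadraticMap Cfsg.Agent.H254 Cfsg.Agent.H967.CopMat Cfsg.Agent.H967.CopSec
open Cfsg.Agent.LieClassical.OrthTrans Cfsg.Agent.ClassicalGeometry.OrthSemi Cfsg.Agent.LieClassical.OrthSimple
  Cfsg.Agent.H198.OrthFrame Cfsg.Agent.H198.ExtForm Cfsg.Agent.H198.Carriers Cfsg.Agent.H185.OrthCent
  Cfsg.Agent.H24.FixOrth Cfsg.Agent.H277.ClsOrth Cfsg.Agent.H54.PQ
open scoped MatrixGroups

universe u v

/-! ### Sections -/

theorem centSyl_of_fix {p : ℕ} [Fact p.Prime] {S : Type*} [Group S] [Finite S] {f : MulAut S}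
    (h : (Nat.card S).factorization p ≤ (Nat.card ↥(H967.CopSec.Fix f)).factorization p) : CentSyl p (Subgroup.zpowers f) := by
  obtain ⟨P₀⟩ : Nonempty (Sylow p ↥(H967.CopSec.Fix f)) := inferInstance
  have h1 : (Nat.card ↥(H967.CopSec.Fix f)).factorization p ≤ (Nat.card S).factorization p :=
    (Nat.factorization_le_iff_dvd Nat.card_pos.ne' Nat.card_pos.ne').2 (Subgroup.card_subgroup_dvd_card _) p
  have h2 : Nat.card ((P₀ : Subgroup ↥(H967.CopSec.Fix f)).map (H967.CopSec.Fix f).subtype) = p ^ (Nat.card S).factorization p := by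
    rw [Subgroup.card_map_of_injective (H967.CopSec.Fix f).subtype_injective, P₀.card_eq_multiplicity, le_antisymm h h1]
  refine ⟨Sylow.ofCard _ h2, fun g hg x hx => ?_⟩
  obtain ⟨y, -, rfl⟩ : x ∈ (P₀ : Subgroup ↥(H967.CopSec.Fix f)).map (H967.CopSec.Fix f).subtype := hx
  obtain ⟨k, rfl⟩ := hg
  have h3 : f ∈ (MulAction.stabilizer (MulAut S) (y : S)) := y.2
  exact zpow_mem h3 k

theorem centSyl_of_sec {p : ℕ} [Fact p.Prime] {S : Type*} [Group S] [Finite S] {f : MulAut S} {Y : Type*} [Group Y]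
    (h : Sec S f Y) (hc : (Nat.card S).factorization p = (Nat.card Y).factorization p) :
    CentSyl p (Subgroup.zpowers f) := by
  refine centSyl_of_fix ?_
  rw [hc]
  have h1 : Nat.card Y ≠ 0 := fun h0 => by
    have h2 := h.card_dvd
    rw [h0, zero_dvd_iff] at h2
    exact Nat.card_pos.ne' h2
  exact (Nat.factorization_le_iff_dvd h1 Nat.card_pos.ne').2 h.card_dvd p

/-! ### The matrix group -/

section gen

variable {ι : Type} [Fintype ι] [DecidableEq ι] {F : Type u} [Field F] {Q : QuadraticForm F (ι → F)}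

/-- the isometries `v ↦ σ (s (σ⁻¹ v))` -/
theorem ext_fix {σ : F ≃+* F} (h : H185.OrthCent.Fix σ Q) : _root_.Cfsg.Agent.H185.OrthCent.Ext (σ : F →+* F) Q Q := ⟨fun v => h v⟩

theorem stab_om (hfix : ∀ σ : F ≃+* F, H185.OrthCent.Fix σ Q) : Stab (omGL Q) := by
  rintro σ _ ⟨s, hs, rfl⟩
  exact ⟨isoHom (ext_fix (hfix σ)) s, isoHom_mem (ext_fix (hfix σ)) s hs, rfl⟩

/-- `Ω` as a matrix group -/
noncomputable def omEquiv (Q : QuadraticForm F (ι → F)) : Omega F ⇑Q ≃* ↥(omGL Q) :=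
  (Omega F ⇑Q).equivMapOfInjective (isometryGroup F ⇑Q).subtype (isometryGroup F ⇑Q).subtype_injective

/-- the projection -/
noncomputable def omPi (Q : QuadraticForm F (ι → F)) : ↥(omGL Q) →* POmega F ⇑Q :=
  (QuotientGroup.mk' (Subgroup.center (Omega F ⇑Q))).comp (omEquiv Q).symm.toMonoidHom

theorem omPi_omEquiv (s : Omega F ⇑Q) : omPi Q (omEquiv Q s) = QuotientGroup.mk s := by
  show QuotientGroup.mk ((omEquiv Q).symm (omEquiv Q s)) = _
  rw [MulEquiv.symm_apply_apply]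

theorem omPi_surjective : Function.Surjective (omPi Q) := by
  intro x
  obtain ⟨s, rfl⟩ := QuotientGroup.mk_surjective x
  exact ⟨omEquiv Q s, omPi_omEquiv s⟩

theorem mem_ker_omPi {g : ↥(omGL Q)} : g ∈ (omPi Q).ker ↔ (omEquiv Q).symm g ∈ Subgroup.center (Omega F ⇑Q) := by
  rw [MonoidHom.mem_ker]
  exact QuotientGroup.eq_one_iff _

theorem ker_omPi_central (z : ↥(omGL Q)) (hz : z ∈ (omPi Q).ker) : z ∈ Subgroup.center ↥(omGL Q) := by
  rw [mem_ker_omPi, Subgroup.mem_center_iff] at hz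
  rw [Subgroup.mem_center_iff]
  intro g
  have h1 := hz ((omEquiv Q).symm g)
  rw [← map_mul, ← map_mul] at h1
  exact (omEquiv Q).symm.injective h1

/-- the elements of the centre of `Ω` are involutions -/
theorem sq_of_center (hG : Good Q) {z : Omega F ⇑Q} (hz : z ∈ Subgroup.center (Omega F ⇑Q)) : z ^ 2 = 1 := by
  have h1 : S hG (omSim Q z) = 1 := by
    simp only [S_omSim, (QuotientGroup.eq_one_iff z).2 hz, map_one]
  obtain ⟨a, ha⟩ := (S_eq_one_iff hG _).1 h1
  have ha' : (((z : isometryGroup F ⇑Q) : GL ι F) : Matrix ι ι F) = (a : F) • (1 : Matrix ι ι F) := ha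
  obtain ⟨x, y, hxy⟩ := hG.exists_hyp
  have h2 : Q (x + y) = 1 := by
    have h3 := hxy.pair
    rw [polar, hxy.left, hxy.right, sub_zero, sub_zero] at h3
    exact h3
  have h3 : Q ((((z : isometryGroup F ⇑Q) : GL ι F) : Matrix ι ι F) *ᵥ (x + y)) = Q (x + y) :=
    (z : isometryGroup F ⇑Q).2 (x + y) (x + y)
  rw [ha', Matrix.smul_mulVec, one_mulVec, QuadraticMap.map_smul, h2, smul_eq_mul, mul_one] at h3
  apply Subtype.ext
  apply Subtype.ext
  apply Units.ext
  show (((z : isometryGroup F ⇑Q) : GL ι F) ^ 2 : GL ι F).1 = 1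
  rw [Units.val_pow_eq_pow_val, ha', _root_.sq, Matrix.smul_mul, Matrix.one_mul, smul_smul, h3, one_smul]

theorem not_dvd_ker [Finite F] (hG : Good Q) {p : ℕ} (hp : p.Prime) (hp2 : p ≠ 2) : ¬ p ∣ Nat.card (omPi Q).ker := by
  intro h
  have hf : Fact p.Prime := ⟨hp⟩
  have hfin : Finite (omGL Q) := inferInstance
  obtain ⟨x, hx⟩ := exists_prime_orderOf_dvd_card' p h
  have h1 : ((omEquiv Q).symm (x : ↥(omGL Q))) ^ 2 = 1 := sq_of_center hG (mem_ker_omPi.1 x.2)
  have h2 : (x : ↥(omGL Q)) ^ 2 = 1 := by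
    apply (omEquiv Q).symm.injective
    rw [map_pow, h1, map_one]
  have h3 : x ^ 2 = 1 := Subtype.ext h2
  have h4 : p ∣ 2 := by rw [← hx]; exact orderOf_dvd_of_pow_eq_one h3
  exact hp2 ((Nat.prime_dvd_prime_iff_eq hp Nat.prime_two).1 h4)

/-- compatibility of the field automorphisms -/
theorem omPi_fieldAut (hG : Good Q) (hfix : ∀ σ : F ≃+* F, H185.OrthCent.Fix σ Q) (σ : F ≃+* F) (g : ↥(omGL Q)) :
    omPi Q (fieldAut (stab_om hfix) σ g) = fldHom hG hfix σ (omPi Q g) := by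
  obtain ⟨s, rfl⟩ := (omEquiv Q).surjective g
  have h1 : fieldAut (stab_om hfix) σ (omEquiv Q s) =
      omEquiv Q ⟨isoHom (ext_fix (hfix σ)) s.1, isoHom_mem (ext_fix (hfix σ)) s.1 s.2⟩ := by
    apply Subtype.ext
    rfl
  rw [h1, omPi_omEquiv, omPi_omEquiv, fldHom_apply]
  symm
  apply Phi_mk
  intro v
  rw [frobG_apply, frobG_apply]
  change (mp (σ : F →+* F) (s.1.1 : GL ι F) : Matrix ι ι F) *ᵥ (fun i => σ (v i)) =
    fun i => σ ((((s.1.1 : GL ι F) : Matrix ι ι F) *ᵥ v) i)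
  funext i
  simp only [Matrix.mulVec, dotProduct, map_sum, map_mul, coe_mp, Matrix.map_apply]
  rfl

end gen

end Cfsg.Agent.H77.PQOrthA
end

-- part: H77/PQOrth
section
/-!
# S4981 on the orthogonal groups in cross characteristic (helper77)

* `sfact_orth` : the fact `SFact` for `PΩ(F, Q)`, `Q` fixed by the field automorphisms, `p` prime to `|F|`;
* `row_oodd_cross` : the groups `Ω_{2m+1}(F)`.
-/

set_option autoImplicit false
set_option linter.unusedSectionVars false

namespace Cfsg.Agent.H77.PQOrth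

open Cfsg Matrix QuadraticMap Cfsg.Agent.H254 Cfsg.Agent.H967.CopMat Cfsg.Agent.H967.CopSec
open Cfsg.Agent.LieClassical.OrthTrans Cfsg.Agent.ClassicalGeometry.OrthSemi Cfsg.Agent.LieClassical.OrthSimple
  Cfsg.Agent.H198.OrthFrame Cfsg.Agent.H198.ExtForm Cfsg.Agent.H198.Carriers Cfsg.Agent.H185.OrthCent
  Cfsg.Agent.H24.FixOrth Cfsg.Agent.H277.ClsOrth Cfsg.Agent.H54.PQ Cfsg.Agent.H77.PQOrthA
open Cfsg.Agent.H55.PQ.Red (sfact_congr sfact_of_field sfact_of_coprime)
open Cfsg.Agent.H754.PQ (row_small)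
open Cfsg.Agent.H173.PQ (factorization_pow_sub_one lt_of_dvd_order)
open scoped MatrixGroups

universe u v

/-! ### The fact -/

section main

variable {ι : Type} [Fintype ι] [DecidableEq ι] [Nonempty ι] {F : Type} [Field F] [Finite F]
  {Q : QuadraticForm F (ι → F)}

theorem natCast_ne_zero_of {p : ℕ} (hp : p.Prime) (hpF : ¬ p ∣ Nat.card F) : (p : F) ≠ 0 := by
  intro h
  have := Fintype.ofFinite F
  obtain ⟨r, hr⟩ := CharP.exists F
  obtain ⟨n, hrp, hn⟩ := FiniteField.card F r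
  rw [CharP.cast_eq_zero_iff F r] at h
  have h1 := (Nat.prime_dvd_prime_iff_eq hrp hp).1 h
  apply hpF
  rw [Nat.card_eq_fintype_card, hn, h1]
  exact dvd_pow_self p n.pos.ne'

theorem not_dvd_Fx {p : ℕ} (hpF : ¬ p ∣ Nat.card F) (σ : F ≃+* F) : ¬ p ∣ Nat.card (Fx σ) := by
  intro h
  apply hpF
  rw [card_Fx σ]
  have hfinA : Finite (F ≃+* F) := Finite.of_injective (fun f : F ≃+* F => (f : F → F)) DFunLike.coe_injective
  exact dvd_pow h (orderOf_pos σ).ne'

/-- **`SFact` for the orthogonal groups in cross characteristic.** -/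
theorem sfact_orth {p q : ℕ} (hG : Good Q) (hfix : ∀ σ : F ≃+* F, H185.OrthCent.Fix σ Q)
    [IsSimpleGroup (POmega F ⇑Q)] (hna : ¬ IsMulCommutative (POmega F ⇑Q))
    (hsolv : Group.IsSolvable (Out (POmega F ⇑Q))) (hpF : ¬ p ∣ Nat.card F)
    (c : ℕ) (hc : ∀ s : ℕ, s.Prime → s ∣ c → s = 2 ∨ s = 3)
    (hcard : Nat.card (MulAut (POmega F ⇑Q)) ∣ c * Nat.card (F ≃+* F) * Nat.card (POmega F ⇑Q))
    (hdvd : ∀ s : ℕ, s.Prime → s ≤ Fintype.card ι → s ∣ Nat.card (POmega F ⇑Q))
    (hsec : p.Prime → q.Prime → p ≠ q → q ≠ 2 → ∀ (σ : F ≃+* F) (j : ℕ), orderOf σ = q ^ j →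
      ¬ q ∣ orderOf ((Nat.card (Fx σ) : ℕ) : ZMod p) →
      ∃ Q₀ : QuadraticForm (Fx σ) (ι → Fx σ), _root_.Cfsg.Agent.H185.OrthCent.Ext (Fx σ).subtype Q₀ Q ∧
        (Nat.card (POmega F ⇑Q)).factorization p = (Nat.card (POmega (Fx σ) ⇑Q₀)).factorization p) :
    SFact p q (POmega F ⇑Q) := by
  intro hp hq hpq hqS
  have hfp : Fact p.Prime := ⟨hp⟩
  have hfq : Fact q.Prime := ⟨hq⟩
  have hfinA : Finite (F ≃+* F) := Finite.of_injective (fun f : F ≃+* F => (f : F → F)) DFunLike.coe_injective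
  have hcyc : IsCyclic (F ≃+* F) := LieRecognition.FieldSemilinear.isCyclic_ringAut F
  have hfin : Finite (POmega F ⇑Q) := inferInstance
  have hdim : 5 ≤ Fintype.card ι := by
    have h1 := hG.dim
    rwa [Module.finrank_fintype_fun_eq_card] at h1
  have hqι : Fintype.card ι < q := by
    by_contra h
    exact hqS (hdvd q hq (not_lt.1 h))
  have hq2 : q ≠ 2 := by omega
  have hZ : Subgroup.center (POmega F ⇑Q) = ⊥ := by
    rcases IsSimpleGroup.eq_bot_or_eq_top_of_normal (Subgroup.center (POmega F ⇑Q)) inferInstance with h | h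
    · exact h
    · exact absurd ⟨⟨fun a b => by
        have h1 : a ∈ Subgroup.center (POmega F ⇑Q) := by rw [h]; trivial
        exact ((Subgroup.mem_center_iff.1 h1) b).symm⟩⟩ hna
  have hout : Nat.card (Out (POmega F ⇑Q)) ∣ c * Nat.card (F ≃+* F) := by
    rw [← card_out hna] at hcard
    exact Nat.dvd_of_mul_dvd_mul_right Nat.card_pos hcard
  have hpart : ∀ s : ℕ, s.Prime → ¬ s ∣ c → ∀ k : ℕ, s ^ k ∣ Nat.card (Out (POmega F ⇑Q)) →
      s ^ k ∣ Nat.card (F ≃+* F) := by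
    intro s hs hsc k hk
    exact (((Nat.Prime.coprime_iff_not_dvd hs).2 hsc).pow_left k).dvd_of_dvd_mul_left (hk.trans hout)
  have hqc : ¬ q ∣ c := by
    intro h
    rcases hc q hq h with h | h <;> omega
  have hinn : ∀ γ : F ≃+* F, (orderOf γ).Prime → fldHom hG hfix γ ∉ Inn (POmega F ⇑Q) := by
    intro γ hγ
    refine H476.FieldOrth.not_inn hG (hfix γ) ?_
    rintro rfl
    rw [orderOf_one] at hγ
    exact Nat.not_prime_one hγ
  -- the easy case
  have hcent : ∀ (σ : F ≃+* F) (j : ℕ), orderOf σ = q ^ j → ¬ q ∣ orderOf ((Nat.card (Fx σ) : ℕ) : ZMod p) →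
      CentSyl p (Subgroup.zpowers (fldHom hG hfix σ)) := by
    intro σ j hσ hd
    obtain ⟨Q₀, hQ₀, he⟩ := hsec hp hq hpq hq2 σ j hσ hd
    have h3 : Sec (POmega F ⇑Q) (Phi hG (frobG (hfix σ))) (POmega (Fx σ) ⇑Q₀) :=
      sec_orth hQ₀ hG (hfix σ) (fun b => b.2)
    exact centSyl_of_sec h3 he
  by_cases hp3 : p ≤ 3
  · refine sfact_of_coprime hZ hsolv (fldHom hG hfix) (fun γ hγ => hinn γ (hγ ▸ hq)) (hpart q hq hqc) ?_ hp hq hpq hqS
    rintro - - - - σ - ⟨j, hσ⟩
    refine hcent σ j hσ fun hd => ?_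
    obtain ⟨h1, h2⟩ := lt_of_dvd_order hp hq (not_dvd_Fx hpF σ) hd
    omega
  · have hpc : ¬ p ∣ c := by
      intro h
      rcases hc p hp h with h | h <;> omega
    refine sfact_of_field hZ hsolv (fldHom hG hfix) (fun γ hγ _ => hinn γ hγ) (hpart p hp hpc) (hpart q hq hqc) ?_
      hp hq hpq hqS
    intro _ _ _ _ A Φ σ hσ1 hF hinv
    by_cases hd : q ∣ orderOf ((Nat.card (Fx σ) : ℕ) : ZMod p)
    · by_cases hpS : p ∣ Nat.card (POmega F ⇑Q)
      · exact (row_small (natCast_ne_zero_of hp hpF) (fldHom hG hfix) hF hinv hqι (stab_om hfix) (omPi Q)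
          omPi_surjective ker_omPi_central (not_dvd_ker hG hp (by omega)) (omPi_fieldAut hG hfix) hpS hd).elim
      · exact centSyl_of_not_dvd hpS _
    · obtain ⟨j, hσ⟩ := hF.φ
      rw [hF.Φ]
      exact hcent σ j hσ hd

end main

/-! ### Odd dimension -/

/-- the product in the order formula -/
theorem fact_odd {p a N m : ℕ} (h : 2 * N = a ^ (m ^ 2) * ∏ i ∈ Finset.range m, (a ^ (2 * (i + 1)) - 1))
    (ha : 1 < a) (hpa : ¬ p ∣ a) :
    Nat.factorization 2 p + N.factorization p =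
      ∑ i ∈ Finset.range m, (a ^ (2 * (i + 1)) - 1).factorization p := by
  have h0 : ∀ i ∈ Finset.range m, a ^ (2 * (i + 1)) - 1 ≠ 0 := by
    intro i _
    have : 1 < a ^ (2 * (i + 1)) := Nat.one_lt_pow (by omega) ha
    omega
  have h1 : a ^ (m ^ 2) * ∏ i ∈ Finset.range m, (a ^ (2 * (i + 1)) - 1) ≠ 0 :=
    mul_ne_zero (pow_ne_zero _ (by omega)) (Finset.prod_ne_zero_iff.2 h0)
  have hN : N ≠ 0 := by
    rintro rfl
    rw [mul_zero] at h
    exact h1 h.symm
  have h2 : Nat.factorization (2 * N) p = Nat.factorization 2 p + N.factorization p := by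
    rw [Nat.factorization_mul _root_.two_ne_zero hN]; rfl
  rw [← h2, h, Nat.factorization_mul (pow_ne_zero _ (by omega)) (Finset.prod_ne_zero_iff.2 h0),
    Nat.factorization_pow, Nat.factorization_prod h0]
  simp only [Finsupp.add_apply, Finsupp.smul_apply, Finsupp.finsetSum_apply]
  rw [Nat.factorization_eq_zero_of_not_dvd hpa, smul_zero, zero_add]

theorem eq_part_odd {p q : ℕ} (hp : p.Prime) (hq : q.Prime) (hpq : p ≠ q) {E K : Type} [Field E] [Finite E]
    [Field K] [Finite K] {m j : ℕ} (hm : 3 ≤ m) (hodd : Odd (Nat.card E)) (hpE : ¬ p ∣ Nat.card E)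
    (hd : ¬ q ∣ orderOf ((Nat.card E : ℕ) : ZMod p)) (hK : Nat.card K = Nat.card E ^ q ^ j) :
    (Nat.card (POmega K (quadFormOdd m K))).factorization p =
      (Nat.card (POmega E (quadFormOdd m E))).factorization p := by
  have := Fintype.ofFinite E
  have := Fintype.ofFinite K
  have hE1 : 1 < Nat.card E := Finite.one_lt_card
  have hK1 : 1 < Nat.card K := Finite.one_lt_card
  have hKodd : Odd (Nat.card K) := by rw [hK]; exact hodd.pow
  have h1 := S0292.result (F := E) (Nat.card_eq_fintype_card (α := E)).symm (by exact hodd) m hm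
  have h2 := S0292.result (F := K) (Nat.card_eq_fintype_card (α := K)).symm (by exact hKodd) m hm
  have hpK : ¬ p ∣ Nat.card K := by
    rw [hK]
    exact fun h => hpE (hp.dvd_of_dvd_pow h)
  have h3 := fact_odd h1 hE1 hpE
  have h4 := fact_odd h2 hK1 hpK
  have h5 : ∑ i ∈ Finset.range m, (Nat.card K ^ (2 * (i + 1)) - 1).factorization p =
      ∑ i ∈ Finset.range m, (Nat.card E ^ (2 * (i + 1)) - 1).factorization p := by
    refine Finset.sum_congr rfl fun i _ => ?_
    rw [hK]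
    exact factorization_pow_sub_one hp hq hpq hE1 hpE hd j _ (by omega)
  omega

seal Cfsg.isometryGroup _root_.commutator Subgroup.center QuotientGroup.leftRel in
/-- **X-Oodd : `Ω_{2m+1}(F)` in cross characteristic.** -/
theorem row_oodd_cross {p q r : ℕ} (hpr : p ≠ r) {G : Type u} [Group G] [Finite G] [IsSimpleGroup G]
    (hc : ∃ a b : G, a * b ≠ b * a) (hG : Cfsg.IsPOmegaOddChar r G) : SFact p q G := by
  obtain ⟨F, iF, iFF, iC, m, hm, hodd, ⟨e⟩⟩ := hG
  refine sfact_congr e ?_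
  intro hp hq hpq hqS
  have hr : r.Prime := CharP.char_is_prime F r
  have hrf : Fact r.Prime := ⟨hr⟩
  obtain ⟨f, hr', hf⟩ := FiniteField.card F r
  have h20 : (2 : F) ≠ 0 := Cfsg.Agent.LieClassical.PomegaCard.odd_card_iff.1 hodd
  have hrodd : Odd r := by
    have h1 := hodd
    rw [hf] at h1
    exact (Nat.odd_pow_iff f.pos.ne').1 h1
  have hf' : Nat.card (F ≃+* F) = f := Lib.FieldAutCard.card_ringAut f.pos hf
  have hodd' : Odd (Nat.card F) := by rw [Nat.card_eq_fintype_card]; exact hodd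
  have hsimp : IsSimpleGroup (POmega F ⇑(oddQ m F)) := S0295.result hodd m hm
  have hne : Nonempty (Unit ⊕ (Fin m ⊕ Fin m)) := ⟨.inl ()⟩
  have hna : ¬ IsMulCommutative (POmega F ⇑(oddQ m F)) := by
    intro h
    obtain ⟨a, b, hab⟩ := hc
    apply hab
    apply e.injective
    rw [map_mul, map_mul]
    exact h.is_comm.comm _ _
  have hsolv : Group.IsSolvable (Out (POmega F ⇑(oddQ m F))) :=
    isSolvable_out_of_sch (Schreier.ClassPOmega.sch_odd hm h20)
  have hpF : ¬ p ∣ Nat.card F := by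
    rw [Nat.card_eq_fintype_card, hf]
    intro h
    exact hpr ((Nat.prime_dvd_prime_iff_eq hp hr).1 (hp.dvd_of_dvd_pow h))
  refine (sfact_orth (Q := oddQ m F) (good_oddQ (by omega) h20) (fun σ => fix_oddQ σ m) hna hsolv hpF 2 ?_ ?_ ?_ ?_
    hp hq hpq hqS :)
  · intro s hs hs2
    exact Or.inl ((Nat.prime_dvd_prime_iff_eq hs Nat.prime_two).1 hs2)
  · rw [hf']
    exact (S0816.result r f f.pos hf hrodd m hm).dvd
  · intro s hs hsι
    refine H476.FieldOrth.odd_dvd (r := r) hm hodd' (H476.FieldOrth.char_dvd F r) hs (Or.inr (Or.inr ?_))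
    rw [Fintype.card_sum, Fintype.card_sum, Fintype.card_fin, Fintype.card_unit] at hsι
    omega
  · intro _ _ _ _ σ j hσ hd
    refine ⟨oddQ m (Fx σ), ext_oddQ _ m, ?_⟩
    exact eq_part_odd hp hq hpq hm (H476.FieldOrth.fx_odd hodd' σ) (not_dvd_Fx hpF σ) hd (by rw [← hσ]; exact card_Fx σ)

end Cfsg.Agent.H77.PQOrth
end

-- part: H358/PQ/Gen
section
/-!
# S4981: orthogonal groups, generic part (helper358)

* `centSyl_of_sec` : a section of the fixed points with the same `p`-part;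
* `omGL Q` : `Ω(Q)` as a subgroup of `GL`, `piOm : omGL Q → POmega F Q`, compatible with the field automorphisms.
-/

set_option autoImplicit false

namespace Cfsg.Agent.H358.PQ

open Cfsg Matrix Subgroup QuadraticMap Cfsg.Agent.H54.PQ Cfsg.Agent.H967.CopMat Cfsg.Agent.H967.CopSec
open Cfsg.Agent.LieClassical.OrthTrans Cfsg.Agent.ClassicalGeometry.OrthSemi Cfsg.Agent.LieClassical.OrthSimple
  Cfsg.Agent.H198.OrthFrame Cfsg.Agent.H185.OrthCent Cfsg.Agent.H24.FixOrth

universe u v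

theorem centSyl_of_sec {p : ℕ} [hp : Fact p.Prime] {S : Type u} [Group S] [Finite S] {Y : Type v} [Group Y] [Finite Y]
    {f : MulAut S} (h : Sec S f Y) (hc : (Nat.card S).factorization p ≤ (Nat.card Y).factorization p) :
    CentSyl p (Subgroup.zpowers f) := by
  set C : Subgroup S := H967.CopSec.Fix f with hC
  have h1 : (Nat.card Y).factorization p ≤ (Nat.card C).factorization p :=
    (Nat.factorization_le_iff_dvd Nat.card_pos.ne' Nat.card_pos.ne').2 h.card_dvd p
  have h2 : (Nat.card C).factorization p ≤ (Nat.card S).factorization p :=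
    (Nat.factorization_le_iff_dvd Nat.card_pos.ne' Nat.card_pos.ne').2 (Subgroup.card_subgroup_dvd_card C) p
  obtain ⟨P⟩ : Nonempty (Sylow p C) := inferInstance
  have h3 : Nat.card ((P : Subgroup C).map C.subtype) = p ^ (Nat.card S).factorization p := by
    rw [Subgroup.card_map_of_injective C.subtype_injective, P.card_eq_multiplicity]
    congr 1
    omega
  refine ⟨Sylow.ofCard _ h3, ?_⟩
  have h4 : ∀ x ∈ ((P : Subgroup C).map C.subtype), f x = x := by
    rintro _ ⟨y, -, rfl⟩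
    exact y.2
  intro g hg x hx
  have hx' : x ∈ ((P : Subgroup C).map C.subtype) := hx
  obtain ⟨k, rfl⟩ := Subgroup.mem_zpowers_iff.1 hg
  have h5 : f ∈ MulAction.stabilizer (MulAut S) x := h4 x hx'
  exact zpow_mem h5 k

section orth

variable {ι : Type} [Fintype ι] [DecidableEq ι] {F : Type} [Field F]

/-- `Ω(Q)` as a matrix group -/
def omGL (Q : QuadraticForm F (ι → F)) : Subgroup (GL ι F) := (Omega F ⇑Q).map (isometryGroup F ⇑Q).subtype

/-- the element of `Ω(Q)` -/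
noncomputable def toOm (Q : QuadraticForm F (ι → F)) : omGL Q ≃* Omega F ⇑Q :=
  ((Omega F ⇑Q).equivMapOfInjective (isometryGroup F ⇑Q).subtype (Subgroup.subtype_injective _)).symm

theorem coe_toOm {Q : QuadraticForm F (ι → F)} (g : omGL Q) :
    (((toOm Q g : Omega F ⇑Q) : isometryGroup F ⇑Q) : GL ι F) = g := by
  have h := ((Omega F ⇑Q).equivMapOfInjective (isometryGroup F ⇑Q).subtype
    (Subgroup.subtype_injective _)).apply_symm_apply g
  exact congrArg Subtype.val h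

/-- the projection -/
noncomputable def piOm (Q : QuadraticForm F (ι → F)) : omGL Q →* POmega F ⇑Q :=
  (QuotientGroup.mk' (center (Omega F ⇑Q))).comp (toOm Q).toMonoidHom

theorem piOm_apply {Q : QuadraticForm F (ι → F)} (g : omGL Q) : piOm Q g = QuotientGroup.mk (toOm Q g) := rfl

theorem piOm_surjective (Q : QuadraticForm F (ι → F)) : Function.Surjective (piOm Q) :=
  (QuotientGroup.mk'_surjective _).comp (toOm Q).surjective

theorem ker_piOm {Q : QuadraticForm F (ι → F)} {g : omGL Q} : g ∈ (piOm Q).ker ↔ toOm Q g ∈ center (Omega F ⇑Q) := by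
  rw [MonoidHom.mem_ker, piOm_apply]
  exact QuotientGroup.eq_one_iff _

theorem ker_le_center {Q : QuadraticForm F (ι → F)} : ∀ z ∈ (piOm Q).ker, z ∈ center (omGL Q) := by
  intro z hz
  rw [ker_piOm] at hz
  rw [mem_center_iff] at hz ⊢
  intro g
  apply (toOm Q).injective
  rw [map_mul, map_mul]
  exact hz _

theorem stab_omGL {Q : QuadraticForm F (ι → F)} (h : ∀ σ : F ≃+* F, H185.OrthCent.Fix σ Q) : Stab (omGL Q) := by
  rintro σ _ ⟨g, hg, rfl⟩
  have hE : _root_.Cfsg.Agent.H185.OrthCent.Ext (σ : F →+* F) Q Q := ⟨fun v => h σ v⟩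
  exact ⟨isoHom hE g, isoHom_mem hE g hg, rfl⟩

theorem piOm_fieldAut {Q : QuadraticForm F (ι → F)} (hG : Good Q) (h : ∀ σ : F ≃+* F, H185.OrthCent.Fix σ Q)
    (σ : F ≃+* F) (g : omGL Q) :
    piOm Q (fieldAut (stab_omGL h) σ g) = Phi hG (frobG (h σ)) (piOm Q g) := by
  ((conv => enter [@2]; rw [piOm_apply]); (conv => enter [@3, @6]; rw [piOm_apply]))
  symm
  apply Phi_mk
  intro v
  rw [coe_toOm, coe_toOm, frobG_apply, frobG_apply]
  funext i
  simp only [Matrix.mulVec, dotProduct, map_sum, map_mul, fieldAut_apply]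

theorem not_dvd_ker {Q : QuadraticForm F (ι → F)} [Finite F] (hG : Good Q) (hne : ∃ v, Q v ≠ 0) {p : ℕ} (hp : p.Prime)
    (hp2 : p ≠ 2) : ¬ p ∣ Nat.card (piOm Q).ker := by
  intro h
  have : Fact p.Prime := ⟨hp⟩
  have hfin : Finite (GL ι F) := inferInstance
  obtain ⟨z, hz⟩ := exists_prime_orderOf_dvd_card' p h
  have h1 := ker_piOm.1 z.2
  set s : Omega F ⇑Q := toOm Q z.1 with hs
  have h2 : S hG (omSim Q s) = 1 := by
    simp only [S_omSim hG s, (QuotientGroup.eq_one_iff s).2 h1, map_one]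
  obtain ⟨a, ha⟩ := (S_eq_one_iff hG _).1 h2
  have ha' : ((z.1 : GL ι F) : Matrix ι ι F) = (a : F) • (1 : Matrix ι ι F) := by
    rw [← ha, ← coe_toOm z.1]
    rfl
  have h3 : ∀ v, Q (((z.1 : GL ι F) : Matrix ι ι F) *ᵥ v) = Q v := by
    intro v
    rw [← coe_toOm z.1]
    exact s.1.2 v v
  obtain ⟨v, hv⟩ := hne
  have h4 : (a : F) * a = 1 := by
    have h5 := h3 v
    rw [ha', Matrix.smul_mulVec, Matrix.one_mulVec, QuadraticMap.map_smul, smul_eq_mul] at h5
    exact mul_right_cancel₀ hv (h5.trans (one_mul _).symm)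
  have h5 : z ^ 2 = 1 := by
    apply Subtype.ext
    apply Subtype.ext
    apply Units.ext
    change (((z.1 ^ 2 : omGL Q) : GL ι F) : Matrix ι ι F) = 1
    rw [Subgroup.coe_pow, Units.val_pow_eq_pow_val, ha', smul_pow, one_pow, pow_two, h4, one_smul]
  have h6 : p ∣ 2 := by
    rw [← hz]
    exact orderOf_dvd_of_pow_eq_one h5
  exact hp2 ((Nat.prime_dvd_prime_iff_eq hp Nat.prime_two).1 h6)

end orth

end Cfsg.Agent.H358.PQ
end

-- part: H734/Fld/Plus
section
/-!
# S4761: coprime automorphisms of `PΩ⁺_{2m}(q)` move the classes of two elements of different orders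
-/

set_option autoImplicit false

open scoped Matrix

namespace Cfsg.Agent.H734.Fld

open Cfsg Cfsg.Agent.H277.Cls Cfsg.Agent.H277.ClsOrth Cfsg.Agent.H596.Fld
open Cfsg.Agent.ClassicalGeometry.OrthSemi Cfsg.Agent.LieClassical.OrthCore Cfsg.Agent.LieClassical.OrthTrans
open Cfsg.Agent.H198.OrthFrame (Phi Sim simGam S Phi_eq_one_iff)
open Cfsg.Agent.H198.Carriers

end Cfsg.Agent.H734.Fld
end

-- part: H358/PQ/OPlus
section
/-!
# S4981, X-Oplus: `PΩ⁺_{2m}(F)` in cross characteristic (helper358)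
-/

set_option autoImplicit false

namespace Cfsg.Agent.H358.PQ

open Cfsg Matrix Subgroup QuadraticMap Cfsg.Agent.H54.PQ Cfsg.Agent.H967.CopMat Cfsg.Agent.H967.CopSec
open Cfsg.Agent.H55.PQ.Red (sfact_congr sfact_of_field sfact_of_coprime)
open Cfsg.Agent.H754.PQ (row_small)
open Cfsg.Agent.H173.PQ (factorization_pow_sub_one lt_of_dvd_order)
open Cfsg.Agent.LieClassical.OrthTrans Cfsg.Agent.ClassicalGeometry.OrthSemi Cfsg.Agent.LieClassical.OrthSimple
  Cfsg.Agent.H198.OrthFrame Cfsg.Agent.H198.Carriers Cfsg.Agent.H185.OrthCent Cfsg.Agent.H24.FixOrth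
open Cfsg.Agent.H476.FieldOrth (plus_dvd fx_facts char_dvd)
open Cfsg.Agent.H277.ClsOrth (fldHom fldHom_injective fix_plus fldHom_apply)

universe u v

/-- the `p`-part of `|PΩ⁺_{2m}(q)|` for `q = q₀ ^ (q₁ ^ j)` -/
theorem fact_eq {p q₁ : ℕ} (hp : p.Prime) (hq₁ : q₁.Prime) (hpq : p ≠ q₁) {a : ℕ} (h1 : 1 < a) (h0 : ¬ p ∣ a)
    (hd : ¬ q₁ ∣ orderOf (a : ZMod p)) (j : ℕ) {m N M : ℕ} (hm : 4 ≤ m)
    (hM : Nat.gcd 4 (a ^ m - 1) * M = a ^ (m * (m - 1)) * (a ^ m - 1) * ∏ i ∈ Finset.range (m - 1), (a ^ (2 * (i + 1)) - 1))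
    (hN : Nat.gcd 4 ((a ^ q₁ ^ j) ^ m - 1) * N = (a ^ q₁ ^ j) ^ (m * (m - 1)) * ((a ^ q₁ ^ j) ^ m - 1) *
      ∏ i ∈ Finset.range (m - 1), ((a ^ q₁ ^ j) ^ (2 * (i + 1)) - 1)) (hN0 : N ≠ 0) (hM0 : M ≠ 0) :
    N.factorization p = M.factorization p := by
  set b := a ^ q₁ ^ j with hb
  have hb1 : 1 < b := Nat.one_lt_pow (pow_ne_zero _ hq₁.ne_zero) h1
  have hb0 : ¬ p ∣ b := fun h => h0 (hp.dvd_of_dvd_pow h)
  have key : ∀ i : ℕ, i ≠ 0 → (b ^ i - 1).factorization p = (a ^ i - 1).factorization p := fun i hi =>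
    factorization_pow_sub_one hp hq₁ hpq h1 h0 hd j i hi
  have hpos : ∀ c : ℕ, 1 < c → ∀ i : ℕ, i ≠ 0 → c ^ i - 1 ≠ 0 := by
    intro c hc i hi
    have := Nat.one_lt_pow hi hc
    omega
  have hgen : ∀ (c K : ℕ), 1 < c → ¬ p ∣ c → K ≠ 0 →
      Nat.gcd 4 (c ^ m - 1) * K = c ^ (m * (m - 1)) * (c ^ m - 1) * ∏ i ∈ Finset.range (m - 1), (c ^ (2 * (i + 1)) - 1) →
      (Nat.gcd 4 (c ^ m - 1)).factorization p + K.factorization p =
        (c ^ m - 1).factorization p + ∑ i ∈ Finset.range (m - 1), (c ^ (2 * (i + 1)) - 1).factorization p := by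
    intro c K hc hpc hK h
    have hprod : ∏ i ∈ Finset.range (m - 1), (c ^ (2 * (i + 1)) - 1) ≠ 0 :=
      Finset.prod_ne_zero_iff.2 fun i _ => hpos c hc _ (by omega)
    have h2 := congrArg (fun x : ℕ => x.factorization p) h
    beta_reduce at h2
    rw [Nat.factorization_mul (Nat.gcd_pos_of_pos_left _ (by norm_num)).ne' hK,
      Nat.factorization_mul (mul_ne_zero (pow_ne_zero _ (by omega)) (hpos c hc m (by omega))) hprod,
      Nat.factorization_mul (pow_ne_zero _ (by omega)) (hpos c hc m (by omega)), Nat.factorization_prod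
        (fun i _ => hpos c hc _ (by omega))] at h2
    simp only [Finsupp.add_apply] at h2
    rw [Nat.factorization_eq_zero_of_not_dvd (n := c ^ (m * (m - 1))) (p := p) (fun h => hpc (hp.dvd_of_dvd_pow h)),
      zero_add, Finsupp.finsetSum_apply] at h2
    exact h2
  have e1 := hgen a M h1 h0 hM0 hM
  have e2 := hgen b N hb1 hb0 hN0 hN
  have hg : (Nat.gcd 4 (b ^ m - 1)).factorization p = (Nat.gcd 4 (a ^ m - 1)).factorization p := by
    rw [Nat.factorization_gcd (by norm_num) (hpos b hb1 m (by omega)),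
      Nat.factorization_gcd (by norm_num) (hpos a h1 m (by omega)), Finsupp.inf_apply, Finsupp.inf_apply,
      key m (by omega)]
  have hs : ∑ i ∈ Finset.range (m - 1), (b ^ (2 * (i + 1)) - 1).factorization p =
      ∑ i ∈ Finset.range (m - 1), (a ^ (2 * (i + 1)) - 1).factorization p :=
    Finset.sum_congr rfl fun i _ => key _ (by omega)
  rw [hg, hs, key m (by omega), ← e1] at e2
  omega

theorem exists_plus_ne_zero {F : Type} [Field F] {m : ℕ} (hm : 0 < m) :
    ∃ v : Fin m ⊕ Fin m → F, plusQ m F v ≠ 0 := by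
  refine ⟨Pi.single (Sum.inl ⟨0, hm⟩) 1 + Pi.single (Sum.inr ⟨0, hm⟩) 1, ?_⟩
  change quadFormPlus m F _ ≠ 0
  unfold quadFormPlus
  rw [Finset.sum_eq_single (⟨0, hm⟩ : Fin m)]
  · simp
  · intro i _ hi
    simp [hi]
  · simp only [_root_.Finset.mem_univ, _root_.not_true_eq_false, _root_.Pi.add_apply, _root_.Pi.single_eq_same, _root_.ne_eq, _root_.reduceCtorEq, _root_.not_false_eq_true, _root_.Pi.single_eq_of_ne, _root_.add_zero, _root_.zero_add, _root_.mul_one, _root_.one_ne_zero, _root_.imp_self]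

seal Cfsg.isometryGroup _root_.commutator Subgroup.center QuotientGroup.leftRel in
theorem row_plus {p q r : ℕ} (hpr : p ≠ r) {F : Type} [Field F] [Fintype F] [CharP F r] {m : ℕ} (hm : 4 ≤ m) :
    SFact p q (POmega F (quadFormPlus m F)) := by
  by_cases hpp : p.Prime
  swap
  · exact fun h => absurd h hpp
  by_cases hqp : q.Prime
  swap
  · exact fun _ h => absurd h hqp
  by_cases hpq : p = q
  · exact fun _ _ h => absurd hpq h
  by_cases hqS : q ∣ Nat.card (POmega F (quadFormPlus m F))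
  · exact fun _ _ _ h => absurd hqS h
  have hrp : r.Prime := CharP.char_is_prime F r
  have : Fact r.Prime := ⟨hrp⟩
  have : Fact p.Prime := ⟨hpp⟩
  have : Fact q.Prime := ⟨hqp⟩
  obtain ⟨f, -, hF⟩ := FiniteField.card F r
  have hfin : Finite (POmega F (quadFormPlus m F)) := Quotient.finite _
  have hG := good_plusQ (F := F) (m := m) (by omega)
  have hne : Nonempty (Fin m ⊕ Fin m) := ⟨Sum.inl ⟨0, by omega⟩⟩
  have hsimp : IsSimpleGroup (POmega F (quadFormPlus m F)) := S0296.result m hm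
  have h2S := plus_dvd (r := r) (E := F) hm (char_dvd F r) Nat.prime_two (Or.inl rfl)
  have h3S := plus_dvd (r := r) (E := F) hm (char_dvd F r) Nat.prime_three (Or.inr (Or.inr (by omega)))
  have hna : ¬ IsMulCommutative (POmega F (quadFormPlus m F)) := H476.FieldOrth.not_comm h2S h3S
  have hZ : center (POmega F (quadFormPlus m F)) = ⊥ := by
    rcases (inferInstance : (center (POmega F (quadFormPlus m F))).Normal).eq_bot_or_eq_top with h | h
    · exact h
    · exact absurd ⟨⟨fun a b => (mem_center_iff.1 (h ▸ mem_top b : b ∈ center _) a)⟩⟩ hna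
  have hsolv : Group.IsSolvable (Out (POmega F (quadFormPlus m F))) :=
    H254.isSolvable_out_of_sch (Schreier.ClassPOmega.sch_plus hm)
  have hf' : Nat.card (F ≃+* F) = f := Lib.FieldAutCard.card_ringAut f.pos hF
  have hcyc : IsCyclic (F ≃+* F) := LieRecognition.FieldSemilinear.isCyclic_ringAut F
  have hfinA : Finite (F ≃+* F) := Finite.of_injective (fun f : F ≃+* F => (f : F → F)) DFunLike.coe_injective
  -- `q` is large
  have hq2m : 2 * m < q := by
    by_contra hcon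
    exact hqS (plus_dvd (r := r) (E := F) hm (char_dvd F r) hqp (Or.inr (Or.inr (by omega))))
  -- `|Out|` divides `24 f`
  have hout : Nat.card (Out (POmega F (quadFormPlus m F))) ∣ 24 * Nat.card (F ≃+* F) := by
    have hcard : Nat.card (MulAut (POmega F (quadFormPlus m F))) ∣ 24 * f * Nat.card (POmega F (quadFormPlus m F)) := by
      rw [S0817.result r f f.pos hF m hm]
      refine mul_dvd_mul_right (mul_dvd_mul_right ?_ _) _
      exact mul_dvd_mul (show (if m = 4 then 3 else 1) ∣ 3 by split_ifs <;> simp)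
        (show (if r = 2 then 2 else if Even (m * (r ^ (f : ℕ) - 1) / 2) then 8 else 4) ∣ 8 by split_ifs <;> norm_num)
    rw [← H254.card_out hna] at hcard
    rw [hf']
    exact Nat.dvd_of_mul_dvd_mul_right Nat.card_pos hcard
  have hpart : ∀ s : ℕ, s.Prime → ¬ s ∣ 24 → ∀ k : ℕ, s ^ k ∣ Nat.card (Out (POmega F (quadFormPlus m F))) →
      s ^ k ∣ Nat.card (F ≃+* F) := fun s hs h24 k hk =>
    (((Nat.Prime.coprime_iff_not_dvd hs).2 h24).pow_left k).dvd_of_dvd_mul_left (hk.trans hout)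
  have h24 : ∀ s : ℕ, s.Prime → s ∣ 24 → s = 2 ∨ s = 3 := by
    intro s hs h
    rcases (hs.dvd_mul).1 (show s ∣ 2 ^ 3 * 3 from h) with h | h
    · exact Or.inl ((Nat.prime_dvd_prime_iff_eq hs Nat.prime_two).1 (hs.dvd_of_dvd_pow h))
    · exact Or.inr ((Nat.prime_dvd_prime_iff_eq hs Nat.prime_three).1 h)
  have hq24 : ¬ q ∣ 24 := by
    intro h
    rcases h24 q hqp h with h | h <;> omega
  let Ψ : (F ≃+* F) →* MulAut (POmega F (quadFormPlus m F)) := (fldHom hG (_root_.Cfsg.Agent.H277.ClsOrth.fix_plus m) :)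
  have hinn : ∀ γ : F ≃+* F, γ ≠ 1 → Ψ γ ∉ Inn (POmega F (quadFormPlus m F)) := fun γ hγ =>
    H476.FieldOrth.not_inn hG (_root_.Cfsg.Agent.H277.ClsOrth.fix_plus m γ) hγ
  -- the characteristic
  have hp0 : ∀ c : ℕ, (∃ k : ℕ, c ^ k = Nat.card F) → ¬ p ∣ c := by
    rintro c ⟨k, hk⟩ h
    have h1 : k ≠ 0 := by
      rintro rfl
      rw [pow_zero] at hk
      have : 1 < Nat.card F := Finite.one_lt_card
      omega
    have h2 : p ∣ Nat.card F := hk ▸ (h.trans (dvd_pow_self c h1))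
    rw [Nat.card_eq_fintype_card, hF] at h2
    exact hpr ((Nat.prime_dvd_prime_iff_eq hpp hrp).1 (hpp.dvd_of_dvd_pow h2))
  -- centralised Sylow subgroup
  have cent : ∀ φ : F ≃+* F, (∃ k : ℕ, orderOf φ = q ^ k) → ¬ q ∣ orderOf (Nat.card (Fx φ) : ZMod p) →
      CentSyl p (Subgroup.zpowers (Ψ φ)) := by
    rintro φ ⟨k, hk⟩ hd
    have hfinFx : Finite (Fx φ) := inferInstance
    have := Fintype.ofFinite (Fx φ)
    have hsec : Sec (POmega F (quadFormPlus m F)) (Ψ φ) (POmega (Fx φ) (quadFormPlus m (Fx φ))) :=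
      sec_orth (ext_plusQ (Fx φ).subtype m) hG (_root_.Cfsg.Agent.H277.ClsOrth.fix_plus m φ) (fun b => b.2)
    have hfin0 : Finite (POmega (Fx φ) (quadFormPlus m (Fx φ))) := Quotient.finite _
    refine centSyl_of_sec hsec ?_
    have hcF : Fintype.card F = Nat.card (Fx φ) ^ q ^ k := by
      rw [← Nat.card_eq_fintype_card, card_Fx φ, hk]
    have hN := S0293.result (F := F) hcF m hm
    have hM := S0293.result (F := Fx φ) (Nat.card_eq_fintype_card (α := Fx φ)).symm m hm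
    exact (fact_eq hpp hqp hpq Finite.one_lt_card (hp0 _ ⟨q ^ k, by rw [← hcF, Nat.card_eq_fintype_card]⟩) hd k hm hM hN
      Nat.card_pos.ne' Nat.card_pos.ne').le
  by_cases hp24 : p ∣ 24
  · refine sfact_of_coprime hZ hsolv Ψ (fun γ hγ => hinn γ ?_) (hpart q hqp hq24) ?_
    · rintro rfl
      rw [orderOf_one] at hγ
      exact hqp.one_lt.ne hγ
    · intro _ _ _ _ φ _ hφ
      refine cent φ hφ fun hd => ?_
      have hc : ¬ p ∣ Nat.card (Fx φ) := hp0 _ ⟨orderOf φ, (card_Fx φ).symm⟩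
      have h1 := (lt_of_dvd_order hpp hqp hc hd).2
      rcases h24 p hpp hp24 with h | h <;> omega
  · refine sfact_of_field hZ hsolv Ψ (fun γ hγ _ => hinn γ ?_) (hpart p hpp hp24) (hpart q hqp hq24) ?_
    · rintro rfl
      rw [orderOf_one] at hγ
      exact Nat.not_prime_one hγ
    · intro _ _ _ _ A Φ φ _ hS hinv
      by_cases hd : q ∣ orderOf (Nat.card (Fx φ) : ZMod p)
      · by_cases hpS : p ∣ Nat.card (POmega F (quadFormPlus m F))
        · exfalso
          have hpF : (p : F) ≠ 0 := by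
            rw [Ne, CharP.cast_eq_zero_iff F r]
            intro h
            exact hpr ((Nat.prime_dvd_prime_iff_eq hrp hpp).1 h).symm
          have hι : Fintype.card (Fin m ⊕ Fin m) < q := by
            rw [Fintype.card_sum, Fintype.card_fin]
            omega
          refine row_small hpF Ψ hS hinv hι (stab_omGL (_root_.Cfsg.Agent.H277.ClsOrth.fix_plus m)) (piOm (plusQ m F)) (piOm_surjective _)
            ker_le_center ?_ (fun σ g => piOm_fieldAut hG (_root_.Cfsg.Agent.H277.ClsOrth.fix_plus m) σ g) hpS hd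
          exact not_dvd_ker hG (exists_plus_ne_zero (by omega)) hpp (fun h => hp24 (h ▸ by norm_num))
        · exact centSyl_of_not_dvd hpS Φ
      · rw [hS.Φ]
        exact cent φ hS.φ hd

seal Cfsg.isometryGroup _root_.commutator Subgroup.center QuotientGroup.leftRel in
theorem row_oplus_cross {p q r : ℕ} (hpr : p ≠ r) {G : Type u} [Group G] [Finite G] [IsSimpleGroup G]
    (_hc : ∃ a b : G, a * b ≠ b * a) (hG : Cfsg.IsPOmegaPlusChar r G) : SFact p q G := by
  obtain ⟨F, _, _, _, m, hm, ⟨e⟩⟩ := hG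
  exact sfact_congr e (row_plus hpr hm)

end Cfsg.Agent.H358.PQ
end

-- part: H328/PQ/TF4
section
/-!
# S4981, ORD-F: the Ree groups `²F₄`, `q` does not divide the order of `|F_σ|` modulo `p`
-/

set_option autoImplicit false

namespace Cfsg.Agent.H328.PQ

open Subgroup Cfsg Cfsg.Lie Cfsg.Agent.H54.PQ Cfsg.Agent.H967.CopMat Cfsg.Agent.H967.CopSz Cfsg.Agent.H967.CopFix

/-- the group over the field of fixed elements -/
def incl {ι : Type*} [Fintype ι] [DecidableEq ι] {F : Type*} [Field F] {G : Subgroup (GL ι F)}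
    (σ : F ≃+* F) {G₀ : Subgroup (GL ι ↥(Fx σ))}
    (h : G₀.map (Matrix.GeneralLinearGroup.map (Fx σ).subtype) ≤ G) : ↥G₀ →* ↥G where
  toFun g := ⟨Matrix.GeneralLinearGroup.map (Fx σ).subtype g.1, h ⟨g.1, g.2, rfl⟩⟩
  map_one' := Subtype.ext (map_one _)
  map_mul' a b := Subtype.ext (map_mul _ _ _)

theorem incl_injective {ι : Type*} [Fintype ι] [DecidableEq ι] {F : Type*} [Field F] {G : Subgroup (GL ι F)}
    (σ : F ≃+* F) {G₀ : Subgroup (GL ι ↥(Fx σ))}
    (h : G₀.map (Matrix.GeneralLinearGroup.map (Fx σ).subtype) ≤ G) : Function.Injective (incl σ h) := fun _ _ hab =>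
  Subtype.ext (_root_.Cfsg.Agent.H967.CopMat.map_injective (Fx σ).subtype (congrArg Subtype.val hab))

theorem fieldAut_incl {ι : Type*} [Fintype ι] [DecidableEq ι] {F : Type*} [Field F] {G : Subgroup (GL ι F)} (hG : Stab G)
    (σ : F ≃+* F) {G₀ : Subgroup (GL ι ↥(Fx σ))}
    (h : G₀.map (Matrix.GeneralLinearGroup.map (Fx σ).subtype) ≤ G) (x : ↥G₀) : fieldAut hG σ (incl σ h x) = incl σ h x :=
  Subtype.ext (map_fixed σ x.1)

/-- the order formula of `²F₄` -/
theorem fact_tf4 {p q : ℕ} (hp : p.Prime) (hq : q.Prime) (hq2 : q ≠ 2) (hpq : p ≠ q) {q₀ : ℕ}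
    (h1 : 1 < q₀) (h0 : ¬ p ∣ q₀) (hd : ¬ q ∣ orderOf (q₀ : ZMod p)) (j : ℕ) :
    ((q₀ ^ q ^ j) ^ 12 * (q₀ ^ q ^ j - 1) * ((q₀ ^ q ^ j) ^ 3 + 1) * ((q₀ ^ q ^ j) ^ 4 - 1) *
      ((q₀ ^ q ^ j) ^ 6 + 1)).factorization p =
    (q₀ ^ 12 * (q₀ - 1) * (q₀ ^ 3 + 1) * (q₀ ^ 4 - 1) * (q₀ ^ 6 + 1)).factorization p := by
  have key : ∀ Q : ℕ, 1 < Q → ¬ p ∣ Q → (Q ^ 12 * (Q - 1) * (Q ^ 3 + 1) * (Q ^ 4 - 1) * (Q ^ 6 + 1)).factorization p =
      (Q ^ 1 - 1).factorization p + (Q ^ 3 + 1).factorization p + (Q ^ 4 - 1).factorization p +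
        (Q ^ 6 + 1).factorization p := by
    intro Q hQ hpQ
    have e1 : Q ^ 12 ≠ 0 := pow_ne_zero _ (by omega)
    have e2 : Q - 1 ≠ 0 := by omega
    have e3 : Q ^ 3 + 1 ≠ 0 := by omega
    have e4 : Q ^ 4 - 1 ≠ 0 := by
      have := Nat.one_lt_pow (n := 4) (by norm_num) hQ
      omega
    have e5 : Q ^ 6 + 1 ≠ 0 := by omega
    rw [Nat.factorization_mul (mul_ne_zero (mul_ne_zero (mul_ne_zero e1 e2) e3) e4) e5,
      Nat.factorization_mul (mul_ne_zero (mul_ne_zero e1 e2) e3) e4,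
      Nat.factorization_mul (mul_ne_zero e1 e2) e3, Nat.factorization_mul e1 e2]
    simp only [Finsupp.coe_add, Pi.add_apply, pow_one]
    rw [Nat.factorization_eq_zero_of_not_dvd (n := Q ^ 12) fun h => hpQ (hp.dvd_of_dvd_pow h), zero_add]
  have hqj : q ^ j ≠ 0 := pow_ne_zero _ hq.ne_zero
  rw [key (q₀ ^ q ^ j) (Nat.one_lt_pow hqj h1) fun h => h0 (hp.dvd_of_dvd_pow h), key q₀ h1 h0]
  rw [H173.PQ.factorization_pow_sub_one hp hq hpq h1 h0 hd j 1 (by norm_num),
    H173.PQ.factorization_pow_sub_one hp hq hpq h1 h0 hd j 4 (by norm_num),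
    H173.PQ.factorization_pow_add_one hp hq hq2 hpq h1 h0 hd j 3 (by norm_num),
    H173.PQ.factorization_pow_add_one hp hq hq2 hpq h1 h0 hd j 6 (by norm_num)]

/-- TASK ORD-F -/
theorem cent_tf4 {p q : ℕ} [Fact p.Prime] (hq : q.Prime) (hq3 : 3 < q) (hp2 : p ≠ 2) (hpq : p ≠ q)
    {K : Type} [Field K] [Fintype K] {m : ℕ} (hK : Fintype.card K = 2 ^ (2 * m + 1))
    {σ : K ≃+* K} (hσ : ∃ k : ℕ, orderOf σ = q ^ k)
    (hord : ¬ q ∣ orderOf ((Nat.card ↥(Fx σ) : ℕ) : ZMod p)) :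
    CentSyl p (Subgroup.zpowers (fieldAut (stab_f4 (K := K) (2 ^ m)) σ)) := by
  obtain ⟨k, hk⟩ := hσ
  have hp := (Fact.out : p.Prime)
  have : Fintype ↥(Fx σ) := Fintype.ofFinite _
  have hcard := card_Fx σ
  have hE : 2 ^ (2 * m + 1) = Nat.card ↥(Fx σ) ^ orderOf σ := by
    rw [← card_Fx, Nat.card_eq_fintype_card, hK]
  obtain ⟨m₀, j, h1, h2⟩ := exists_odd_exp Nat.prime_two hE
  have h4 : Fintype.card ↥(Fx σ) = 2 ^ (2 * m₀ + 1) := by rw [← Nat.card_eq_fintype_card, h1]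
  refine H173.PQ.centSyl_of_card (MonoidHom.id _) Function.surjective_id
    (incl σ (words_f4 (Fx σ).subtype (2 ^ m))) (incl_injective σ _) ?_ (fieldAut (stab_f4 (2 ^ m)) σ) _
    (fieldAut_incl (stab_f4 (2 ^ m)) σ _) fun _ => rfl
  rw [twistedF4_congr (E := ↥(Fx σ)) (e := 2 ^ m) (pow_eq h1 h2), S1068.result h4, S1068.result hK]
  have h5 : 2 ^ (2 * m + 1) = (2 ^ (2 * m₀ + 1)) ^ q ^ k := by rw [hE, h1, hk]
  rw [h5]
  refine fact_tf4 hp hq (by omega) hpq (Nat.one_lt_pow (by omega) (by norm_num)) (fun h => hp2 ?_) ?_ k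
  · exact (Nat.prime_dvd_prime_iff_eq hp Nat.prime_two).1 (hp.dvd_of_dvd_pow h)
  · rwa [h1] at hord

end Cfsg.Agent.H328.PQ
end

-- part: H54/PQ/Cross
section
/-!
# S4981: the groups of Lie type in cross characteristic (helper54)
-/

set_option autoImplicit false

namespace Cfsg.Agent.H54.PQ

open Subgroup Cfsg

universe u

theorem centTwF4 : H660.PQ.CentTwF4 := by
  intro p q _ hq hq3 hp2 hpq K _ _ m hK σ hσ hord
  exact H328.PQ.cent_tf4 hq hq3 hp2 hpq hK hσ hord

/-- **the fact for the groups of Lie type in cross characteristic** -/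
theorem sfact_cross {p q r : ℕ} (hpr : p ≠ r) {G : Type u} [Group G] [Finite G] [IsSimpleGroup G]
    (hc : ∃ a b : G, a * b ≠ b * a) (hG : IsLieTypeChar r G) : SFact p q G := by
  rcases hG with h | h | h | h | h | h | h | h | ⟨rfl, h⟩ | ⟨rfl, h⟩ | ⟨rfl, h⟩
  · exact H95.PQ.row_psl_cross hpr hc h
  · exact H353.PQ.Psp.row_psp_cross hpr hc h
  · exact H89.PQ.Psu.row_psu_cross hpr hc h
  · exact H77.PQOrth.row_oodd_cross hpr hc h
  · exact H358.PQ.row_oplus_cross hpr hc h
  · exact H219.PQ.row_ominus_cross hpr hc h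
  · exact TwoGlue.row_chev_cross hpr h
  · exact TwoGlue.row_tw_cross hpr h
  · exact H296.PQ.SR.row_sz_cross hpr h
  · exact TwoGlue.row_tf4_cross centTwF4 hpr h
  · exact H296.PQ.SR.row_ree_cross hpr h

end Cfsg.Agent.H54.PQ
end

private theorem dce_18ef89b1255b : _root_.True := by
  try have : _root_.True := by simp only [_root_.Cfsg.Agent.H967.CopMat.fieldAut.congr_simp]
  exact _root_.True.intro
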